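import Mathlib

/-!
# The even-weight module of `A₅`: finite facts
-/

set_option autoImplicit false
set_option synthInstance.maxSize 4000
set_option synthInstance.maxHeartbeats 200000

namespace Cfsg.Agent.Lib.Inv59.ASixteen

open Equiv

local notation "A5" => alternatingGroup (Fin 5)

/-- Binary vectors on five points; two complementary vectors stand for one element. -/
abbrev V5 := Fin 5 → ZMod 2

/-- The permutation action. -/
def rot (π : Perm (Fin 5)) (f : V5) : V5 := fun i => f (π.symm i)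

/-- Equality modulo the all-one vector. -/
abbrev eqv (f g : V5) : Prop := g = f ∨ g = f + 1

/-- Weight one or four. -/
abbrev four (f : V5) : Prop :=
  (Finset.univ.filter fun i => f i = 1).card = 1 ∨ (Finset.univ.filter fun i => f i = 1).card = 4

/-- The parity on the first four points. -/
abbrev lam (f : V5) : ZMod 2 := f 0 + f 1 + f 2 + f 3

/-- The class of the point `4`. -/
def e4 : V5 := Pi.single 4 1

/-- The class of the pair `{0, 1}`. -/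
def e01 : V5 := Pi.single 0 1 + Pi.single 1 1

/-- The class of the point `0`. -/
def e0 : V5 := Pi.single 0 1

/-- A pair outside the hyperplane of `e4`. -/
def q04 : V5 := Pi.single 0 1 + Pi.single 4 1

theorem four_rot : ∀ π : A5, ∀ f, four (rot (π : Perm (Fin 5)) f) ↔ four f := by decide +kernel

theorem four_eqv : ∀ f g, eqv f g → (four g ↔ four f) := by decide +kernel

theorem trans : ∀ f g : V5, ¬ eqv 0 f → ¬ eqv 0 g → (four f ↔ four g) →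
    ∃ π : A5, eqv (rot (π : Perm (Fin 5)) f) g := by decide +kernel

theorem basic : ¬ eqv 0 e4 ∧ four e4 ∧ ¬ eqv 0 e01 ∧ ¬ four e01 ∧ ¬ eqv 0 e0 ∧ four e0 ∧
    four (e0 + e01) ∧ ¬ eqv 0 (e0 + e01) ∧ ¬ eqv e0 (e0 + e01) ∧ lam e4 = 0 ∧ lam q04 = 1 ∧
    ¬ eqv 0 q04 := by decide +kernel

theorem faithful : ∀ π : A5, (∀ f, eqv (rot (π : Perm (Fin 5)) f) f) → π = 1 := by decide +kernel

theorem fix_four : ∀ π : A5, eqv (rot (π : Perm (Fin 5)) e4) e4 ↔ (π : Perm (Fin 5)) 4 = 4 := by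
  decide +kernel

theorem w_char : ∀ f, lam f = 0 ↔ (eqv 0 f ∨ eqv e4 f ∨ (¬ four f ∧ ¬ four (f + e4))) := by
  decide +kernel

theorem lam_eqv : ∀ f g, eqv f g → lam g = lam f := by decide +kernel

theorem faithful_w : ∀ π : A5, (∀ f, lam f = 0 → eqv (rot (π : Perm (Fin 5)) f) f) → π = 1 := by
  decide +kernel

theorem sylow_stab : ∀ π : A5, π ^ 4 = 1 → (π : Perm (Fin 5)) 4 = 4 → π * π = 1 := by decide +kernel

theorem act_v : ∀ π : A5, π * π = 1 → (π : Perm (Fin 5)) 4 = 4 → ∀ f,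
    lam (rot (π : Perm (Fin 5)) f + f) = 0 ∧
    (lam f = 0 → eqv 0 (rot (π : Perm (Fin 5)) f + f) ∨ eqv e4 (rot (π : Perm (Fin 5)) f + f)) ∧
    (π ≠ 1 → lam f = 1 → ¬ eqv 0 (rot (π : Perm (Fin 5)) f + f) ∧
      ¬ eqv e4 (rot (π : Perm (Fin 5)) f + f)) ∧
    (π ≠ 1 → eqv (rot (π : Perm (Fin 5)) f) f → lam f = 0) := by decide +kernel

theorem w_gen : ∀ f, lam f = 0 → ∃ π : A5, π * π = 1 ∧ (π : Perm (Fin 5)) 4 = 4 ∧
    ∃ h : V5, eqv (rot (π : Perm (Fin 5)) h + h) f := by decide +kernel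

theorem four_group : ∀ π σ : A5, π * π = 1 → (π : Perm (Fin 5)) 4 = 4 → σ * σ = 1 →
    (σ : Perm (Fin 5)) 4 = 4 → (π * σ) * (π * σ) = 1 := by decide +kernel

theorem common_fixed : ∀ π σ : A5, π * π = 1 → (π : Perm (Fin 5)) 4 = 4 → π ≠ 1 → σ * σ = 1 →
    (σ : Perm (Fin 5)) 4 = 4 → σ ≠ 1 → π ≠ σ → ∀ f, eqv (rot (π : Perm (Fin 5)) f) f →
    eqv (rot (σ : Perm (Fin 5)) f) f → eqv 0 f ∨ eqv e4 f := by decide +kernel

theorem add_e4 : ∀ f g, (eqv 0 (f + e4) → eqv e4 f) ∧ lam (f + g) = lam f + lam g ∧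
    (lam f = 1 → lam g = 1 → lam (f + g) = 0) ∧ (lam f = 0 ∨ lam f = 1) := by decide +kernel

theorem w_ne : ∀ f, (¬ four (f + e4) → ¬ eqv 0 f) ∧ (¬ four f → ¬ eqv 0 (f + e4)) := by decide +kernel

theorem eqv_key : ∀ a b : V5, eqv a b → (eqv 0 a → eqv 0 b) ∧ (eqv e4 a → eqv e4 b) := by decide +kernel

theorem conj_v4 : ∀ π σ : A5, (π : Perm (Fin 5)) 4 = 4 → (σ : Perm (Fin 5)) 4 = 4 → σ * σ = 1 →
    (π * σ * π⁻¹) * (π * σ * π⁻¹) = 1 ∧ ((π * σ * π⁻¹ : A5) : Perm (Fin 5)) 4 = 4 := by decide +kernel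

theorem v4_cases : ∀ π σ ρ : A5, π * σ * π⁻¹ ≠ σ → σ * σ = 1 → (σ : Perm (Fin 5)) 4 = 4 → σ ≠ 1 →
    (π : Perm (Fin 5)) 4 = 4 → ρ * ρ = 1 → (ρ : Perm (Fin 5)) 4 = 4 →
    ρ = 1 ∨ ρ = σ ∨ ρ = π * σ * π⁻¹ ∨ ρ = σ * (π * σ * π⁻¹) := by decide +kernel

theorem four_ne : ∀ f, eqv 0 f → ¬ four f := by decide +kernel

theorem section_inj : ∀ f g : V5, f 4 = 0 → g 4 = 0 → eqv f g → f = g := by decide +kernel

theorem section_card : 2 ^ 3 ≤ Fintype.card {f : V5 // f 4 = 0} := by decide +kernel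

theorem q04_kind : ¬ four q04 ∧ four (q04 + e4) ∧ ¬ eqv 0 (q04 + e4) := by decide +kernel

theorem exists_point : ∀ i : Fin 5, ∃ π : A5, (π : Perm (Fin 5)) i = 4 := by decide +kernel

theorem card_v4 : (Finset.univ.filter fun σ : A5 => σ * σ = 1 ∧ (σ : Perm (Fin 5)) 4 = 4).card = 4 := by
  decide +kernel

theorem exists_three : ∃ π : A5, (π : Perm (Fin 5)) 4 = 4 ∧ π * π ≠ 1 := by decide +kernel

theorem three_act : ∀ π : A5, (π : Perm (Fin 5)) 4 = 4 → π * π ≠ 1 → π * π * π = 1 ∧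
    (∀ f, lam f = 0 →
      eqv 0 (rot (π : Perm (Fin 5)) f + f) ∨ eqv e4 (rot (π : Perm (Fin 5)) f + f) →
      eqv 0 f ∨ eqv e4 f) ∧
    (∀ σ : A5, σ * σ = 1 → (σ : Perm (Fin 5)) 4 = 4 → σ ≠ 1 →
      π * σ * π⁻¹ ≠ σ ∧ σ * (π * σ * π⁻¹) = π * π * σ * (π * π)⁻¹) ∧
    (∀ ρ : A5, (ρ : Perm (Fin 5)) 4 = 4 → ∃ σ : A5, σ * σ = 1 ∧ (σ : Perm (Fin 5)) 4 = 4 ∧
      (ρ = σ ∨ ρ = σ * π ∨ ρ = σ * (π * π))) := by decide +kernel

theorem exists_v : ∃ σ : A5, σ * σ = 1 ∧ (σ : Perm (Fin 5)) 4 = 4 ∧ σ ≠ 1 := by decide +kernel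

theorem pair_key : ∀ f, four f → four (f + e01) → eqv e0 f ∨ eqv (e0 + e01) f := by decide +kernel

theorem exists_swap : ∃ σ : A5, eqv (rot (σ : Perm (Fin 5)) e01) e01 ∧
    eqv (rot (σ : Perm (Fin 5)) e0) (e0 + e01) ∧ eqv (rot (σ : Perm (Fin 5)) (e0 + e01)) e0 := by
  decide +kernel

theorem invol_fixed : ∀ π : A5, π * π = 1 → π ≠ 1 → ∃ f, four f ∧ eqv (rot (π : Perm (Fin 5)) f) f ∧
    (∀ g, four g → eqv (rot (π : Perm (Fin 5)) g) g → eqv f g) ∧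
    ∃ g, eqv (rot (π : Perm (Fin 5)) g) g ∧ ¬ eqv 0 g ∧ ¬ eqv f g := by decide +kernel

end Cfsg.Agent.Lib.Inv59.ASixteen
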