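import Mathlib
import Cfsg.Prelude.Def_CaseTheorems
import Cfsg.Agent.Lib.Cores.Pi
import Cfsg.Agent.Lib.Coprime.Conjugacy
import Cfsg.Agent.Lib.Coprime.Glauberman

/-!
# Odd cores of subgroups
-/

set_option autoImplicit false
set_option linter.style.haveILetI false
set_option linter.unusedSectionVars false

namespace Cfsg.Agent.Lib.Inv59.ASixteen

open Subgroup
open scoped Pointwise

universe u v

variable {G : Type u} [Group G]

/-- The odd core of a subgroup, inside the ambient group. -/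
def oc (H : Subgroup G) : Subgroup G := (Cfsg.oddCore ↥H).map H.subtype

theorem oc_le (H : Subgroup G) : oc H ≤ H := map_subtype_le _

theorem oc_conj {H : Subgroup G} {g : G} (hg : ∀ h ∈ H, g * h * g⁻¹ ∈ H)
    (hg' : ∀ h ∈ H, g⁻¹ * h * g ∈ H) {x : G} (hx : x ∈ oc H) : g * x * g⁻¹ ∈ oc H := by
  obtain ⟨x, hx, rfl⟩ := hx
  let e : ↥H ≃* ↥H :=
    { toFun := fun h => ⟨g * h * g⁻¹, hg h h.2⟩
      invFun := fun h => ⟨g⁻¹ * h * g, hg' h h.2⟩
      left_inv := fun h => Subtype.ext (by show g⁻¹ * (g * h * g⁻¹) * g = h; group)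
      right_inv := fun h => Subtype.ext (by show g * (g⁻¹ * h * g) * g⁻¹ = h; group)
      map_mul' := fun a b => Subtype.ext (by show g * (a * b : G) * g⁻¹ = g * a * g⁻¹ * (g * b * g⁻¹); group) }
  refine ⟨e x, ?_, rfl⟩
  exact Cores.map_pPrimeCore_le e.toMonoidHom e.surjective ⟨x, hx, rfl⟩

theorem oc_conj_self {H : Subgroup G} {g x : G} (hg : g ∈ H) (hx : x ∈ oc H) : g * x * g⁻¹ ∈ oc H :=
  oc_conj (fun _ h => H.mul_mem (H.mul_mem hg h) (H.inv_mem hg))
    (fun _ h => H.mul_mem (H.mul_mem (H.inv_mem hg) h) hg) hx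

variable [Finite G]

theorem odd_oc (H : Subgroup G) : Odd (Nat.card (oc H)) := by
  rw [oc, card_map_of_injective H.subtype_injective]
  exact Cores.oddCore_odd

theorem le_oc {L H : Subgroup G} (hLH : L ≤ H) (hodd : Odd (Nat.card L))
    (hn : ∀ h ∈ H, ∀ l ∈ L, h * l * h⁻¹ ∈ L) : L ≤ oc H := by
  haveI : (L.subgroupOf H).Normal := ⟨fun l hl h => hn h h.2 _ hl⟩
  have h := Cores.le_oddCore (G := ↥H) (N := L.subgroupOf H)
    (by rwa [Nat.card_congr (subgroupOfEquivOfLe hLH).toEquiv])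
  intro x hx
  exact ⟨⟨x, hLH hx⟩, h hx, rfl⟩

/-- The odd core of a normal subgroup. -/
theorem oc_mono {Y H : Subgroup G} (hYH : Y ≤ H) (hn : ∀ h ∈ H, ∀ y ∈ Y, h * y * h⁻¹ ∈ Y) :
    oc Y ≤ oc H :=
  le_oc ((oc_le Y).trans hYH) (odd_oc Y) fun h hh _ hl =>
    oc_conj (hn h hh) (fun y hy => by simpa using hn h⁻¹ (H.inv_mem hh) y hy) hl

omit [Finite G] in
theorem le_normalizer_of_forall {A K : Subgroup G} (h : ∀ a ∈ A, ∀ k ∈ K, a * k * a⁻¹ ∈ K) :
    A ≤ normalizer (K : Set G) := fun a ha => mem_normalizer_iff.2 fun k =>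
  ⟨fun hk => h a ha k hk, fun hk => by simpa [mul_assoc] using h a⁻¹ (A.inv_mem ha) _ hk⟩

theorem odd_sup {A B : Subgroup G} (hA : Odd (Nat.card A)) (hB : Odd (Nat.card B))
    (h : ∀ a ∈ A, ∀ b ∈ B, a * b * a⁻¹ ∈ B) : Odd (Nat.card ↥(A ⊔ B)) := by
  let N := normalizer (B : Set G)
  have hAN : A ≤ N := le_normalizer_of_forall h
  have hBN : B ≤ N := le_normalizer
  haveI : (B.subgroupOf N).Normal := normal_in_normalizer
  have hd := Cores.card_sup_dvd_mul (A.subgroupOf N) (B.subgroupOf N)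
  rw [← subgroupOf_sup hAN hBN, Nat.card_congr (subgroupOfEquivOfLe (sup_le hAN hBN)).toEquiv,
    Nat.card_congr (subgroupOfEquivOfLe hAN).toEquiv, Nat.card_congr (subgroupOfEquivOfLe hBN).toEquiv] at hd
  exact (hA.mul hB).of_dvd_nat hd

/-- An element of a 2-group in an odd subgroup. -/
theorem eq_one_of_odd {P L : Subgroup G} (hP : IsPGroup 2 P) (hL : Odd (Nat.card L)) {x : G}
    (hxP : x ∈ P) (hxL : x ∈ L) : x = 1 := by
  obtain ⟨k, hk⟩ := IsPGroup.iff_orderOf.1 hP ⟨x, hxP⟩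
  rw [orderOf_mk] at hk
  rw [← orderOf_eq_one_iff]
  exact Nat.eq_one_of_dvd_coprimes (Nat.Coprime.pow_left k (Nat.coprime_two_left.mpr hL))
    (dvd_of_eq hk) (Subgroup.orderOf_dvd_natCard L hxL)

theorem odd_orderOf {L : Subgroup G} (hL : Odd (Nat.card L)) {x : G} (hx : x ∈ L) : Odd (orderOf x) :=
  hL.of_dvd_nat (Subgroup.orderOf_dvd_natCard L hx)

theorem isPGroup_sq {P : Subgroup G} (h : ∀ p ∈ P, p * p = 1) : IsPGroup 2 P := fun p => ⟨1, Subtype.ext (by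
  rw [pow_one, coe_pow, pow_two]; exact h p p.2)⟩

/-- Burnside's normal complement, inside a subgroup. -/
theorem exists_complement {D P : Subgroup G} (hPD : P ≤ D) (hP : IsPGroup 2 P)
    (hmax : ∀ R : Subgroup G, R ≤ D → P ≤ R → IsPGroup 2 R → R ≤ P)
    (hc : ∀ g ∈ D, (∀ p ∈ P, g * p * g⁻¹ ∈ P) → ∀ p ∈ P, g * p = p * g) :
    ∀ d ∈ D, ∃ p ∈ P, ∃ o ∈ oc D, d = p * o := by
  haveI := Fact.mk Nat.prime_two
  obtain ⟨T, hT⟩ := (hP.of_equiv (subgroupOfEquivOfLe hPD).symm :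
    IsPGroup 2 ↥(P.subgroupOf D)).exists_le_sylow
  have hT' : (T : Subgroup ↥D) = P.subgroupOf D := by
    refine le_antisymm (fun x hx => ?_) hT
    exact hmax ((T : Subgroup ↥D).map D.subtype) (map_subtype_le _)
      (fun p hp => ⟨⟨p, hPD hp⟩, hT hp, rfl⟩) (T.2.map _) ⟨x, hx, rfl⟩
  have hN : normalizer (T : Set ↥D) ≤ centralizer ((T : Subgroup ↥D) : Set ↥D) := by
    intro g hg
    have hg' : g ∈ normalizer ((P.subgroupOf D : Subgroup ↥D) : Set ↥D) := by rw [← hT']; exact hg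
    rw [mem_centralizer_iff]
    intro t ht
    have ht' : (t : G) ∈ P := by
      have : t ∈ P.subgroupOf D := hT' ▸ ht
      exact this
    exact Subtype.ext (hc g g.2 (fun p hp => (mem_normalizer_iff.1 hg' ⟨p, hPD hp⟩).1 hp) t ht').symm
  have hcomp := MonoidHom.ker_transferSylow_isComplement' T hN
  have hodd : Odd (Nat.card (MonoidHom.transferSylow T hN).ker) :=
    Nat.not_even_iff_odd.1 fun h => MonoidHom.not_dvd_card_ker_transferSylow T hN h.two_dvd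
  intro d hd
  obtain ⟨⟨⟨k, hk⟩, ⟨t, ht⟩⟩, hkt⟩ := hcomp.2 ⟨d, hd⟩
  have ht' : (t : G) ∈ P := by
    have : t ∈ P.subgroupOf D := hT' ▸ ht
    exact this
  have hk' : (k : G) ∈ oc D := ⟨k, Cores.le_oddCore hodd hk, rfl⟩
  refine ⟨t, ht', (t : G)⁻¹ * k * (t : G)⁻¹⁻¹, oc_conj_self (D.inv_mem t.2) hk', ?_⟩
  have : ((k * t : ↥D) : G) = d := congrArg Subtype.val hkt
  rw [← this, coe_mul]; group

/-- The preimage of an odd subgroup under a quotient by a central involution. -/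
theorem central_preimage {X : Subgroup G} {c : G} (hc2 : c * c = 1) (hcX : c ∈ X)
    (hcen : ∀ x ∈ X, x * c = c * x) {Q : Type v} [Group Q] [Finite Q] (φ : ↥X →* Q)
    (hker : ∀ x : ↥X, φ x = 1 ↔ (x : G) = 1 ∨ (x : G) = c) (L : Subgroup Q) [L.Normal]
    (hL : Odd (Nat.card L)) :
    ∀ x : ↥X, φ x ∈ L → ∃ o ∈ oc X, (x : G) = o ∨ (x : G) = c * o := by
  haveI := Fact.mk Nat.prime_two
  let D : Subgroup G := (L.comap φ).map X.subtype
  have hDn : ∀ x ∈ X, ∀ d ∈ D, x * d * x⁻¹ ∈ D := by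
    rintro x hx _ ⟨d, hd, rfl⟩
    exact ⟨⟨x, hx⟩ * d * ⟨x, hx⟩⁻¹, (inferInstance : (L.comap φ).Normal).conj_mem d hd _, rfl⟩
  have hDX : D ≤ X := map_subtype_le _
  have hcD : c ∈ D := ⟨⟨c, hcX⟩, mem_comap.2 (by
    rw [(hker ⟨c, hcX⟩).2 (Or.inr rfl)]; exact one_mem _), rfl⟩
  have hP : ∀ p ∈ zpowers c, p = 1 ∨ p = c := by
    rintro _ ⟨i, rfl⟩
    show c ^ i = 1 ∨ c ^ i = c
    rcases Int.even_or_odd i with ⟨j, rfl⟩ | ⟨j, rfl⟩
    · exact Or.inl (by rw [← two_mul, zpow_mul, zpow_two, hc2, one_zpow])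
    · exact Or.inr (by rw [zpow_add, zpow_mul, zpow_two, hc2, one_zpow, one_mul, zpow_one])
  have hmem : ∀ p ∈ zpowers c, p * p = 1 := fun p hp => by
    rcases hP p hp with rfl | rfl
    · exact mul_one 1
    · exact hc2
  have hmax : ∀ R : Subgroup G, R ≤ D → zpowers c ≤ R → IsPGroup 2 R → R ≤ zpowers c := by
    intro R hRD _ hR r hr
    obtain ⟨r', hr', rfl⟩ := hRD hr
    have h1 : φ r' = 1 := by
      obtain ⟨k, hk⟩ := IsPGroup.iff_orderOf.1 hR ⟨_, hr⟩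
      rw [orderOf_mk] at hk
      have hd1 : orderOf (φ r') ∣ 2 ^ k := by
        rw [← hk, show (X.subtype r' : G) = (r' : G) from rfl, orderOf_coe]
        exact orderOf_map_dvd _ _
      rw [← orderOf_eq_one_iff]
      exact Nat.eq_one_of_dvd_coprimes (Nat.Coprime.pow_left k (Nat.coprime_two_left.mpr hL)) hd1
        (Subgroup.orderOf_dvd_natCard L hr')
    rcases (hker r').1 h1 with h | h
    · show (r' : G) ∈ zpowers c; rw [h]; exact one_mem _
    · show (r' : G) ∈ zpowers c; rw [h]; exact mem_zpowers c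

  intro x hx
  obtain ⟨p, hp, o, ho, hxo⟩ := exists_complement (D := D) (P := zpowers c) (zpowers_le.2 hcD)
    (isPGroup_sq hmem)
    hmax
    (fun g hg _ p hp => by
      rcases hP p hp with rfl | rfl
      · rw [mul_one, one_mul]
      · exact hcen g (hDX hg))
    x ⟨x, hx, rfl⟩
  refine ⟨o, oc_mono hDX hDn ho, ?_⟩
  rcases hP p hp with rfl | rfl
  · exact Or.inl (by rw [hxo, one_mul])
  · exact Or.inr hxo

/-- Frattini argument over an odd subgroup. -/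
theorem exists_normalize {P O : Subgroup G} {g : G} (hP : IsPGroup 2 P) (hO : Odd (Nat.card O))
    (hPO : ∀ p ∈ P, ∀ o ∈ O, p * o * p⁻¹ ∈ O)
    (hg : ∀ p ∈ P, ∃ p' ∈ P, ∃ o ∈ O, g * p * g⁻¹ = p' * o) :
    ∃ o ∈ O, ∀ p ∈ P, (o * g) * p * (o * g)⁻¹ ∈ P := by
  haveI := Fact.mk Nat.prime_two
  obtain ⟨k, hk⟩ := IsPGroup.iff_card.1 hP
  obtain ⟨o, ho, he⟩ := Coprime.exists_conj_eq_of_coprime (A := P) (K := O)
    (B := P.map (MulAut.conj g).toMonoidHom) (le_normalizer_of_forall hPO)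
    (hk ▸ Nat.Coprime.pow_left k (Nat.coprime_two_left.mpr hO))
    (Or.inl (Coprime.isSolvable_of_isPGroup hP))
    (by
      rintro _ ⟨p, hp, rfl⟩
      obtain ⟨p', hp', o, ho, he⟩ := hg p hp
      show g * p * g⁻¹ ∈ P ⊔ O
      rw [he]
      exact mul_mem (mem_sup_left hp') (mem_sup_right ho))
    (card_map_of_injective (MulAut.conj g).injective)
  refine ⟨o⁻¹, O.inv_mem ho, fun p hp => ?_⟩
  have h : g * p * g⁻¹ ∈ MulAut.conj o • P := he ▸ ⟨p, hp, rfl⟩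
  rw [Coprime.mem_conj_smul] at h
  convert h using 1
  group

/-- Two involutions in a coset of an odd subgroup which they normalise are conjugate under it. -/
theorem conj_of_involutions {O : Subgroup G} (hO : Odd (Nat.card O)) {t o : G} (ho : o ∈ O)
    (ht : t * t = 1) (hto : t * o * (t * o) = 1) : ∃ s ∈ O, s⁻¹ * t * s = t * o := by
  obtain ⟨k, hk⟩ := odd_orderOf hO ho
  have htinv : t⁻¹ = t := inv_eq_of_mul_eq_one_right ht
  refine ⟨o ^ (k + 1), O.pow_mem ho _, ?_⟩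
  have h1 : t * o * t⁻¹ = o⁻¹ := eq_inv_of_mul_eq_one_left (by
    rw [htinv, show t * o * t * o = t * o * (t * o) by group]; exact hto)
  have h2 : t * (o ^ (k + 1))⁻¹ * t⁻¹ = o ^ (k + 1) := by
    rw [← inv_pow, ← conj_pow, show t * o⁻¹ * t⁻¹ = (t * o * t⁻¹)⁻¹ by group, h1, inv_inv]
  rw [htinv] at h2
  have hss : o ^ (k + 1) * o ^ (k + 1) = o := by
    rw [← pow_add, show k + 1 + (k + 1) = orderOf o + 1 by omega, pow_succ, pow_orderOf_eq_one, one_mul]
  calc (o ^ (k + 1))⁻¹ * t * o ^ (k + 1)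
      = (t * t) * (o ^ (k + 1))⁻¹ * t * o ^ (k + 1) := by rw [ht, one_mul]
    _ = t * (t * (o ^ (k + 1))⁻¹ * t) * o ^ (k + 1) := by group
    _ = t * o := by rw [h2, mul_assoc, hss]

end Cfsg.Agent.Lib.Inv59.ASixteen
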