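import Mathlib
import Cfsg.Agent.Lib.Inv59.ASixteen.Facts
import Cfsg.Agent.Lib.Inv59.ASixteen.Tools

/-!
# A self-normalised picture of `A ≅ E₁₆` under `A₅`
-/

set_option autoImplicit false
set_option linter.unusedSectionVars false
set_option linter.style.haveILetI false

namespace Cfsg.Agent.Lib.Inv59.ASixteen

open Equiv Subgroup

universe u

variable {G : Type u} [Group G]

local notation "A5" => alternatingGroup (Fin 5)

/-- `A` with normaliser `N` inducing `A₅` on it as on the even-weight module, controlling fusion. -/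
structure Cfg (A N O : Subgroup G) where
  φ : ↥N →* A5
  φ_surj : Function.Surjective φ
  ι : V5 → G
  ι_mem : ∀ f, ι f ∈ A
  ι_surj : ∀ a ∈ A, ∃ f, ι f = a
  ι_add : ∀ f g, ι (f + g) = ι f * ι g
  ι_eq : ∀ f g, ι f = ι g ↔ eqv f g
  act : ∀ (n : ↥N) f, (n : G) * ι f * (n : G)⁻¹ = ι (rot (φ n : Perm (Fin 5)) f)
  le : A ≤ N
  mem_N : ∀ g, (∀ a ∈ A, g * a * g⁻¹ ∈ A) → g ∈ N
  φ_A : ∀ n : ↥N, (n : G) ∈ A → φ n = 1
  dec : ∀ n : ↥N, φ n = 1 → ∃ a ∈ A, ∃ o ∈ O, (n : G) = a * o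
  O_le : O ≤ N
  O_odd : Odd (Nat.card O)
  O_norm : ∀ n ∈ N, ∀ o ∈ O, n * o * n⁻¹ ∈ O
  O_comm : ∀ o ∈ O, ∀ a ∈ A, o * a = a * o
  S0 : Sylow 2 G
  S0_le : (S0 : Subgroup G) ≤ N
  A_le : A ≤ (S0 : Subgroup G)
  fus : ∀ g f, g * ι f * g⁻¹ ∈ N → ¬ eqv 0 f → ∃ n ∈ N, g * ι f * g⁻¹ = n * ι f * n⁻¹
  outside : ∀ x ∈ N, ∀ y ∈ N, x * x = 1 → x ∉ A → y * y = 1 → y ∉ A → ∃ n ∈ N, n * x * n⁻¹ = y
  exists_outside : ∃ x ∈ (S0 : Subgroup G), x * x = 1 ∧ x ∉ A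

namespace Cfg

theorem add_self : ∀ f : V5, f + f = 0 := by decide

variable {A N O : Subgroup G} (c : Cfg A N O)
include c

theorem zero : c.ι 0 = 1 := by
  have h := c.ι_add 0 0
  rw [add_zero] at h
  exact left_eq_mul.1 h

theorem sq (f : V5) : c.ι f * c.ι f = 1 := by rw [← c.ι_add, add_self, c.zero]

theorem inv (f : V5) : (c.ι f)⁻¹ = c.ι f := inv_eq_of_mul_eq_one_right (c.sq f)

theorem comm (f g : V5) : c.ι f * c.ι g = c.ι g * c.ι f := by rw [← c.ι_add, ← c.ι_add, add_comm]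

theorem eq_one {f : V5} : c.ι f = 1 ↔ eqv 0 f := by
  rw [← c.zero, eq_comm, c.ι_eq]

theorem A_sq {a : G} (ha : a ∈ A) : a * a = 1 := by
  obtain ⟨f, rfl⟩ := c.ι_surj a ha; exact c.sq f

theorem A_comm {a b : G} (ha : a ∈ A) (hb : b ∈ A) : a * b = b * a := by
  obtain ⟨f, rfl⟩ := c.ι_surj a ha
  obtain ⟨g, rfl⟩ := c.ι_surj b hb
  exact c.comm f g

theorem two_A [Finite G] : IsPGroup 2 A := isPGroup_sq fun _ => c.A_sq

theorem comm_ι (n : ↥N) (f : V5) :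
    (n : G) * c.ι f * (n : G)⁻¹ * (c.ι f)⁻¹ = c.ι (rot (c.φ n : Perm (Fin 5)) f + f) := by
  rw [c.inv, c.act, c.ι_add]

theorem fix_iff (n : ↥N) (f : V5) :
    (n : G) * c.ι f = c.ι f * n ↔ eqv (rot (c.φ n : Perm (Fin 5)) f) f := by
  rw [← c.ι_eq, ← c.act, ← mul_inv_eq_iff_eq_mul]

/-- An element of `N` of odd order centralising `A` is in `O`. -/
theorem mem_O [Finite G] {n : ↥N} (hn : c.φ n = 1) (hodd : Odd (orderOf (n : G))) : (n : G) ∈ O := by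
  obtain ⟨a, ha, o, ho, he⟩ := c.dec n hn
  suffices a = 1 by rw [he, this, one_mul]; exact ho
  have hca : Commute a o := (c.O_comm o ho a ha).symm
  have hm := pow_orderOf_eq_one (n : G)
  rw [he, hca.mul_pow] at hm
  have h1 : a ^ orderOf (n : G) = 1 := by
    rw [← he] at hm
    exact eq_one_of_odd c.two_A c.O_odd (A.pow_mem ha _) (by
      rw [eq_inv_of_mul_eq_one_left hm]; exact O.inv_mem (O.pow_mem ho _))
  obtain ⟨k, hk⟩ := hodd
  rw [hk, pow_succ, pow_mul, pow_two, c.A_sq ha, one_pow, one_mul] at h1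
  exact h1

theorem inter_O [Finite G] {a : G} (ha : a ∈ A) (hao : a ∈ O) : a = 1 := eq_one_of_odd c.two_A c.O_odd ha hao

/-- A 2-element of `N` centralising `A` is in `A`. -/
theorem mem_A [Finite G] {n : ↥N} (hn : c.φ n = 1) {k : ℕ} (hk : (n : G) ^ 2 ^ k = 1) : (n : G) ∈ A := by
  obtain ⟨a, ha, o, ho, he⟩ := c.dec n hn
  suffices o = 1 by rw [he, this, mul_one]; exact ha
  have hca : Commute a o := (c.O_comm o ho a ha).symm
  rw [he, hca.mul_pow] at hk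
  have h1 : o ^ 2 ^ k = 1 := eq_one_of_odd c.two_A c.O_odd (by
    rw [eq_inv_of_mul_eq_one_right hk]; exact A.inv_mem (A.pow_mem ha _)) (O.pow_mem ho _)
  rw [← orderOf_eq_one_iff]
  exact Nat.eq_one_of_dvd_coprimes (Nat.Coprime.pow_left k (Nat.coprime_two_left.mpr c.O_odd))
    (orderOf_dvd_of_pow_eq_one h1) (Subgroup.orderOf_dvd_natCard O ho)

theorem mem_A_of_two [Finite G] {R : Subgroup G} (hR : IsPGroup 2 R) {n : ↥N} (hn : c.φ n = 1)
    (hnR : (n : G) ∈ R) : (n : G) ∈ A := by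
  obtain ⟨k, hk⟩ := hR ⟨n, hnR⟩
  exact c.mem_A hn (congrArg Subtype.val hk)

/-- A conjugate in `N` of a nontrivial element of `A` is in `A`, of the same kind. -/
theorem conj_in {g : G} {f : V5} (hf : ¬ eqv 0 f) (h : g * c.ι f * g⁻¹ ∈ N) :
    ∃ f', g * c.ι f * g⁻¹ = c.ι f' ∧ (four f' ↔ four f) ∧ ¬ eqv 0 f' := by
  obtain ⟨n, hn, he⟩ := c.fus g f h hf
  refine ⟨_, he.trans (c.act ⟨n, hn⟩ f), four_rot _ _, fun h0 => ?_⟩
  have h1 : g * c.ι f * g⁻¹ = 1 := he.trans ((c.act ⟨n, hn⟩ f).trans (c.eq_one.2 h0))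
  rw [mul_inv_eq_one, mul_eq_left, c.eq_one] at h1
  exact hf h1

theorem conj_four {g : G} {f f' : V5} (hf : ¬ eqv 0 f) (h : g * c.ι f * g⁻¹ = c.ι f') :
    four f' ↔ four f := by
  obtain ⟨f'', he, h4, -⟩ := c.conj_in hf (h ▸ c.le (c.ι_mem f'))
  rw [h, c.ι_eq] at he
  rw [← four_eqv _ _ he]
  exact h4

theorem conj_A {g a : G} (ha : a ∈ A) (h : g * a * g⁻¹ ∈ N) : g * a * g⁻¹ ∈ A := by
  obtain ⟨f, rfl⟩ := c.ι_surj a ha
  by_cases hf : eqv 0 f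
  · rw [c.eq_one.2 hf, mul_one, mul_inv_cancel]; exact one_mem A
  obtain ⟨f', he, -⟩ := c.conj_in hf h
  rw [he]; exact c.ι_mem f'

/-- Every 2-subgroup containing `A` lies in `N`. -/
theorem le_N [Finite G] {R : Subgroup G} (hR : IsPGroup 2 R) (hA : A ≤ R) : R ≤ N := by
  obtain ⟨S, hS⟩ := hR.exists_le_sylow
  obtain ⟨g, hg⟩ := MulAction.exists_smul_eq G S c.S0
  have hmem : ∀ s ∈ (S : Subgroup G), g * s * g⁻¹ ∈ (c.S0 : Subgroup G) := fun s hs => by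
    rw [← hg, Sylow.coe_subgroup_smul]
    simpa using Subgroup.smul_mem_pointwise_smul (a := MulAut.conj g) s (S : Subgroup G) hs
  have hgN : g ∈ N := c.mem_N g fun a ha => c.conj_A ha (c.S0_le (hmem a (hS (hA ha))))
  intro r hr
  have h := mul_mem (mul_mem (N.inv_mem hgN) (c.S0_le (hmem r (hS hr)))) hgN
  rwa [show g⁻¹ * (g * r * g⁻¹) * g = r by group] at h

theorem centralizer_le : Subgroup.centralizer (A : Set G) ≤ N := fun g hg => c.mem_N g fun a ha => by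
  rw [← (Subgroup.mem_centralizer_iff.1 hg a ha), mul_inv_cancel_right]; exact ha

theorem exists_rep (π : A5) : ∃ n : ↥N, c.φ n = π := c.φ_surj π

/-- Classes of `A`. -/
theorem exists_conj {f g : V5} (hf : ¬ eqv 0 f) (hg : ¬ eqv 0 g) (h : four f ↔ four g) :
    ∃ n : ↥N, (n : G) * c.ι f * (n : G)⁻¹ = c.ι g := by
  obtain ⟨π, hπ⟩ := trans f g hf hg h
  obtain ⟨n, rfl⟩ := c.φ_surj π
  exact ⟨n, by rw [c.act, c.ι_eq]; exact hπ⟩

end Cfg

end Cfsg.Agent.Lib.Inv59.ASixteen
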