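import Mathlib
import Cfsg.Agent.Lib.Inv59.ASixteen.Point.Main
import Cfsg.Agent.Lib.ZStar.UniqueCase

/-!
# The centraliser of a pair of the module
-/

set_option autoImplicit false
set_option linter.unusedSectionVars false
set_option linter.style.haveILetI false

namespace Cfsg.Agent.Lib.Inv59.ASixteen

open Equiv Subgroup

universe u

local notation "A5" => alternatingGroup (Fin 5)

variable {G : Type u} [Group G] [Finite G] {A N O : Subgroup G} (c : Cfg A N O)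

/-- `C(ι f) = O(C(ι f)) C_N(ι f)`. -/
def Ctrl (f : V5) : Prop :=
  ∀ g ∈ centralizer {c.ι f}, ∃ o ∈ oc (centralizer {c.ι f}), ∃ n ∈ N,
    n ∈ centralizer {c.ι f} ∧ g = o * n

theorem oc_centralizer_conj {a x : G} (g : G) (hx : x ∈ oc (centralizer {a})) :
    g * x * g⁻¹ ∈ oc (centralizer {g * a * g⁻¹}) := by
  have hcent : ∀ y, y ∈ centralizer {g * a * g⁻¹} ↔ g⁻¹ * y * g ∈ centralizer {a} := by
    intro y
    rw [mem_centralizer_singleton_iff, mem_centralizer_singleton_iff]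
    constructor <;> intro h
    · calc g⁻¹ * y * g * a = g⁻¹ * (y * (g * a * g⁻¹)) * g := by group
        _ = g⁻¹ * ((g * a * g⁻¹) * y) * g := by rw [h]
        _ = a * (g⁻¹ * y * g) := by group
    · calc y * (g * a * g⁻¹) = g * (g⁻¹ * y * g * a) * g⁻¹ := by group
        _ = g * (a * (g⁻¹ * y * g)) * g⁻¹ := by rw [h]
        _ = g * a * g⁻¹ * y := by group
  refine (le_oc (L := (oc (centralizer {a})).map (MulAut.conj g).toMonoidHom) ?_ ?_ ?_) ⟨x, hx, rfl⟩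
  · rintro _ ⟨y, hy, rfl⟩
    rw [hcent]
    show g⁻¹ * (g * y * g⁻¹) * g ∈ centralizer {a}
    simpa [mul_assoc] using oc_le _ hy
  · rw [card_map_of_injective (MulAut.conj g).injective]; exact odd_oc _
  · rintro h hh _ ⟨y, hy, rfl⟩
    refine ⟨(g⁻¹ * h * g) * y * (g⁻¹ * h * g)⁻¹, oc_conj_self ((hcent h).1 hh) hy, ?_⟩
    show g * (g⁻¹ * h * g * y * (g⁻¹ * h * g)⁻¹) * g⁻¹ = h * (g * y * g⁻¹) * h⁻¹
    group

theorem ctrl_transport {n : ↥N} {f f' : V5} (he : (n : G) * c.ι f * (n : G)⁻¹ = c.ι f')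
    (h : Ctrl c f) : Ctrl c f' := by
  intro g hg
  have hcent : ∀ y : G, y ∈ centralizer {c.ι f'} → (n : G)⁻¹ * y * n ∈ centralizer {c.ι f} := by
    intro y hy
    rw [mem_centralizer_singleton_iff] at hy ⊢
    rw [← he] at hy
    calc (n : G)⁻¹ * y * n * c.ι f = (n : G)⁻¹ * (y * (n * c.ι f * (n : G)⁻¹)) * n := by group
      _ = (n : G)⁻¹ * ((n * c.ι f * (n : G)⁻¹) * y) * n := by rw [hy]
      _ = c.ι f * ((n : G)⁻¹ * y * n) := by group
  obtain ⟨o, ho, m, hm, hmc, hge⟩ := h _ (hcent g hg)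
  refine ⟨(n : G) * o * (n : G)⁻¹, he ▸ oc_centralizer_conj (n : G) ho, (n : G) * m * (n : G)⁻¹,
    N.mul_mem (N.mul_mem n.2 hm) (N.inv_mem n.2), ?_, ?_⟩
  · rw [mem_centralizer_singleton_iff] at hmc ⊢
    rw [← he]
    calc (n : G) * m * (n : G)⁻¹ * (n * c.ι f * (n : G)⁻¹) = n * (m * c.ι f) * (n : G)⁻¹ := by group
      _ = n * (c.ι f * m) * (n : G)⁻¹ := by rw [hmc]
      _ = n * c.ι f * (n : G)⁻¹ * (n * m * (n : G)⁻¹) := by group
  · calc g = (n : G) * ((n : G)⁻¹ * g * n) * (n : G)⁻¹ := by group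
      _ = (n : G) * (o * m) * (n : G)⁻¹ := by rw [hge]
      _ = _ := by group

/-- The four group of the pair. -/
def pairGroup : Subgroup G where
  carrier := {x | ∃ f, (f = 0 ∨ f = e01 ∨ f = e0 ∨ f = e0 + e01) ∧ c.ι f = x}
  one_mem' := ⟨0, Or.inl rfl, c.zero⟩
  mul_mem' := by
    rintro _ _ ⟨f, hf, rfl⟩ ⟨g, hg, rfl⟩
    refine ⟨f + g, ?_, c.ι_add f g⟩
    have key : ∀ f g : V5, (f = 0 ∨ f = e01 ∨ f = e0 ∨ f = e0 + e01) →
        (g = 0 ∨ g = e01 ∨ g = e0 ∨ g = e0 + e01) →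
        (f + g = 0 ∨ f + g = e01 ∨ f + g = e0 ∨ f + g = e0 + e01) := by decide +kernel
    exact key f g hf hg
  inv_mem' := by
    rintro _ ⟨f, hf, rfl⟩
    exact ⟨f, hf, (c.inv f).symm⟩

/-- `C(ι e01) = O(C) C_N`. -/
theorem pair_ctrl (hc' : Ctrl c e0) : Ctrl c e01 := by
  classical
  haveI := Fact.mk Nat.prime_two
  intro g hg
  set X := centralizer ({c.ι e01} : Set G) with hX
  set a := c.ι e01 with ha
  set b := c.ι e0 with hb
  have hAX : A ≤ X := fun x hx => mem_centralizer_singleton_iff.2 (c.A_comm hx (c.ι_mem e01))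
  have ha1 : a ≠ 1 := fun h => basic.2.2.1 (c.eq_one.1 h)
  have hb1 : b ≠ 1 := fun h => basic.2.2.2.2.1 (c.eq_one.1 h)
  have hab : a * b = c.ι (e0 + e01) := by rw [ha, hb, ← c.ι_add, add_comm]
  have hba : b ≠ a := fun h => basic.2.2.2.1 ((four_eqv _ _ ((c.ι_eq e0 e01).1 h)).2 basic.2.2.2.2.2.1)
  -- the quotient by `a`
  have haX : a ∈ X := hAX (c.ι_mem _)
  let z : ↥X := ⟨a, haX⟩
  have hzc : ∀ k : ↥X, k * z = z * k := fun k => Subtype.ext (mem_centralizer_singleton_iff.1 k.2)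
  haveI : (zpowers z).Normal := ⟨fun m hm k => by
    obtain ⟨i, rfl⟩ := hm
    have hcz : Commute k (z ^ i) := Commute.zpow_right (hzc k) i
    show k * z ^ i * k⁻¹ ∈ zpowers z
    rw [hcz.eq, mul_inv_cancel_right]
    exact zpow_mem (mem_zpowers z) i⟩
  let π := QuotientGroup.mk' (zpowers z)
  have hπs := QuotientGroup.mk'_surjective (zpowers z)
  have hπ1 : ∀ k : ↥X, π k = 1 ↔ (k : G) = 1 ∨ (k : G) = a := by
    intro k
    rw [QuotientGroup.mk'_apply, QuotientGroup.eq_one_iff]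
    constructor
    · rintro ⟨i, rfl⟩
      show ((z ^ i : ↥X) : G) = 1 ∨ ((z ^ i : ↥X) : G) = a
      rw [Subgroup.coe_zpow]
      show a ^ i = 1 ∨ a ^ i = a
      rcases Int.even_or_odd i with ⟨j, rfl⟩ | ⟨j, rfl⟩
      · exact Or.inl (by rw [← two_mul, zpow_mul, zpow_two, ha, c.sq, one_zpow])
      · exact Or.inr (by rw [zpow_add, zpow_mul, zpow_two, ha, c.sq, one_zpow, one_mul, zpow_one])
    · rintro (h | h)
      · rw [show k = 1 from Subtype.ext h]; exact one_mem _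
      · rw [show k = z from Subtype.ext h]; exact mem_zpowers z
  -- the Sylow subgroup
  obtain ⟨T, hT⟩ := (c.two_A.of_equiv (subgroupOfEquivOfLe hAX).symm :
    IsPGroup 2 ↥(A.subgroupOf X)).exists_le_sylow
  have hTN : ∀ t ∈ (T : Subgroup ↥X), (t : G) ∈ N := fun t ht =>
    c.le_N (T.2.map X.subtype) (fun y hy => ⟨⟨y, hAX hy⟩, hT (mem_subgroupOf.2 hy), rfl⟩) ⟨t, ht, rfl⟩
  let P : Sylow 2 (↥X ⧸ zpowers z) := T.mapSurjective (f := π) hπs
  have hP : (P : Subgroup (↥X ⧸ zpowers z)) = (T : Subgroup ↥X).map π := Sylow.coe_mapSurjective _ T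
  let bX : ↥X := ⟨b, hAX (c.ι_mem _)⟩
  have hu : orderOf (π bX) = 2 := by
    refine orderOf_eq_prime ?_ fun h => ?_
    · rw [← map_pow, pow_two, show bX * bX = 1 from Subtype.ext (c.sq e0), map_one]
    · rcases (hπ1 _).1 h with h | h
      · exact hb1 h
      · exact hba h
  have huP : π bX ∈ (P : Subgroup (↥X ⧸ zpowers z)) := by
    rw [hP]; exact ⟨bX, hT (mem_subgroupOf.2 (c.ι_mem _)), rfl⟩
  have hiso : ∀ q, q * π bX * q⁻¹ ∈ (P : Subgroup (↥X ⧸ zpowers z)) → q * π bX * q⁻¹ = π bX := by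
    intro q hq
    obtain ⟨h, rfl⟩ := hπs q
    rw [← map_inv, ← map_mul, ← map_mul] at hq ⊢
    rw [hP] at hq
    obtain ⟨t, ht, hte⟩ := hq
    have hd : π (t⁻¹ * (h * bX * h⁻¹)) = 1 := by rw [map_mul, map_inv, hte, inv_mul_cancel]
    have hN' : (h : G) * b * (h : G)⁻¹ ∈ N := by
      rcases (hπ1 _).1 hd with e | e <;>
        simp only [Subgroup.coe_mul, Subgroup.coe_inv, inv_mul_eq_iff_eq_mul] at e
      · rw [e, mul_one]; exact hTN t ht
      · rw [e]; exact N.mul_mem (hTN t ht) (c.le (c.ι_mem _))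
    obtain ⟨f', he, h4, -⟩ := c.conj_in basic.2.2.2.2.1 hN'
    have hha : (h : G) * a * (h : G)⁻¹ = a :=
      mul_inv_eq_iff_eq_mul.2 (mem_centralizer_singleton_iff.1 h.2)
    have h4' := c.conj_four (g := (h : G)) (f := e0 + e01) (f' := f' + e01) basic.2.2.2.2.2.2.2.1 (by
      rw [c.ι_add, c.ι_add, ← he, ← ha, ← hb]
      calc (h : G) * (b * a) * (h : G)⁻¹ = h * b * (h : G)⁻¹ * (h * a * (h : G)⁻¹) := by group
        _ = h * b * (h : G)⁻¹ * a := by rw [hha])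
    rcases pair_key f' (h4.2 basic.2.2.2.2.2.1) (h4'.2 basic.2.2.2.2.2.2.1) with e | e
    · refine congrArg π (Subtype.ext ?_)
      show (h : G) * b * (h : G)⁻¹ = b
      rw [he, hb, (c.ι_eq _ _).2 e]
    · rw [eq_comm, ← inv_mul_eq_one, ← map_inv, ← map_mul, hπ1]
      right
      show b⁻¹ * ((h : G) * b * (h : G)⁻¹) = a
      rw [he, ← (c.ι_eq _ _).2 e, c.ι_add, ← hb, ← ha, inv_mul_cancel_left]
  obtain ⟨N₀, hN₀, hN₀o, hN₀c⟩ := ZStar.UniqueCase.zstar P (π bX) hu huP hiso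
  haveI := hN₀
  have hconj : ∀ h ∈ X, ∀ p ∈ pairGroup c, ∃ p' ∈ pairGroup c, ∃ o ∈ oc X, h * p * h⁻¹ = p' * o := by
    intro h hh
    have hb' : ∃ p' ∈ pairGroup c, ∃ o ∈ oc X, h * b * h⁻¹ = p' * o := by
      obtain ⟨o, ho, hoe⟩ := central_preimage (X := X) (c := a) (c.sq e01) haX
        (fun x hx => mem_centralizer_singleton_iff.1 hx) π hπ1 N₀ hN₀o (bX * ⟨h, hh⟩ * bX⁻¹ * ⟨h, hh⟩⁻¹)
        (by simp only [map_mul, map_inv]; exact hN₀c _)
      simp only [Subgroup.coe_mul, Subgroup.coe_inv, show (bX : G) = b from rfl] at hoe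
      have hbinv : b⁻¹ = b := inv_eq_of_mul_eq_one_right (c.sq e0)
      rcases hoe with e | e
      · refine ⟨b, ⟨e0, Or.inr (Or.inr (Or.inl rfl)), rfl⟩, o, ho, ?_⟩
        rw [← e, hbinv, show b * (b * h * b * h⁻¹) = (b * b) * (h * b * h⁻¹) by group, c.sq, one_mul]
      · refine ⟨b * a, ⟨e0 + e01, Or.inr (Or.inr (Or.inr rfl)), c.ι_add _ _⟩, o, ho, ?_⟩
        rw [mul_assoc b a o, ← e, hbinv, show b * (b * h * b * h⁻¹) = (b * b) * (h * b * h⁻¹) by group, c.sq, one_mul]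
    have hha : h * a * h⁻¹ = a := mul_inv_eq_iff_eq_mul.2 (mem_centralizer_singleton_iff.1 hh)
    rintro _ ⟨f, hf | hf | hf | hf, rfl⟩ <;> subst hf
    · exact ⟨1, one_mem _, 1, one_mem _, by rw [c.zero]; group⟩
    · exact ⟨a, ⟨e01, Or.inr (Or.inl rfl), rfl⟩, 1, one_mem _, by rw [← ha, hha, mul_one]⟩
    · exact hb'
    · obtain ⟨p', hp', o, ho, he⟩ := hb'
      obtain ⟨f', hf', rfl⟩ := hp'
      refine ⟨c.ι f' * a, mul_mem ⟨f', hf', rfl⟩ ⟨e01, Or.inr (Or.inl rfl), rfl⟩, a⁻¹ * o * a⁻¹⁻¹,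
        oc_conj_self (inv_mem haX) ho, ?_⟩
      rw [c.ι_add, ← ha, ← hb, show h * (b * a) * h⁻¹ = h * b * h⁻¹ * (h * a * h⁻¹) by group, hha, he]
      group
  have hP2 : IsPGroup 2 (pairGroup c) :=
    c.two_A.to_le (by rintro _ ⟨f, -, rfl⟩; exact c.ι_mem f)
  obtain ⟨σ, hσa, hσb, hσab⟩ := exists_swap
  obtain ⟨xN, rfl⟩ := c.φ_surj σ
  have hxX : (xN : G) ∈ X := mem_centralizer_singleton_iff.2 ((c.fix_iff xN e01).2 hσa)
  have hxb : (xN : G) * b * (xN : G)⁻¹ = b * a := by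
    rw [hb, c.act, ha, ← c.ι_add, c.ι_eq]; exact hσb
  have hxab : (xN : G) * (b * a) * (xN : G)⁻¹ = b := by
    rw [hb, ha, ← c.ι_add, c.act, c.ι_eq]; exact hσab
  set Y₀ := centralizer ({b} : Set G) ⊓ X with hY₀
  have hdec : ∀ h ∈ X, ∃ o ∈ oc X, ∃ m ∈ Y₀, h = o * m ∨ h = o * ((xN : G) * m) := by
    intro h hh
    obtain ⟨o, ho, hn⟩ := exists_normalize (P := pairGroup c) (O := oc X) (g := h) hP2 (odd_oc X)
      (fun p hp o ho => oc_conj_self (by obtain ⟨f, -, rfl⟩ := hp; exact hAX (c.ι_mem f)) ho) (hconj h hh)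
    set n := o * h with hn'
    have hnX : n ∈ X := mul_mem (oc_le _ ho) hh
    obtain ⟨f, hf, hfe⟩ := hn b ⟨e0, Or.inr (Or.inr (Or.inl rfl)), rfl⟩
    have hna : n * a * n⁻¹ = a := mul_inv_eq_iff_eq_mul.2 (mem_centralizer_singleton_iff.1 hnX)
    have hcases : n * b * n⁻¹ = b ∨ n * b * n⁻¹ = b * a := by
      rcases hf with rfl | rfl | rfl | rfl
      · rw [c.zero] at hfe
        exact absurd (by rw [← conj_eq_one_iff (a := n) (b := b)]; exact hfe.symm) hb1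
      · refine absurd ?_ hba
        rw [← ha] at hfe
        exact (MulAut.conj n).injective (hfe.symm.trans hna.symm)
      · exact Or.inl hfe.symm
      · exact Or.inr (by rw [← hfe, c.ι_add])
    rcases hcases with e | e
    · exact ⟨o⁻¹, inv_mem ho, n,
        ⟨mem_centralizer_singleton_iff.2 (mul_inv_eq_iff_eq_mul.1 e), hnX⟩, Or.inl (by rw [hn']; group)⟩
    · refine ⟨o⁻¹, inv_mem ho, (xN : G)⁻¹ * n, ⟨mem_centralizer_singleton_iff.2 (mul_inv_eq_iff_eq_mul.1 ?_),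
        X.mul_mem (X.inv_mem hxX) hnX⟩, Or.inr (by rw [hn']; group)⟩
      rw [show (xN : G)⁻¹ * n * b * ((xN : G)⁻¹ * n)⁻¹ = (xN : G)⁻¹ * (n * b * n⁻¹) * xN by group, e, ← hxb]
      group
  -- the odd part of `C(b) ∩ X`
  set D₂ := oc (centralizer ({b} : Set G)) ⊓ X with hD₂
  have hD₂o : Odd (Nat.card D₂) := (odd_oc _).of_dvd_nat (card_dvd_of_le inf_le_left)
  have hD₂c : ∀ m ∈ Y₀, ∀ d ∈ D₂, m * d * m⁻¹ ∈ D₂ := fun m hm d hd =>
    ⟨oc_conj_self hm.1 hd.1, X.mul_mem (X.mul_mem hm.2 hd.2) (X.inv_mem hm.2)⟩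
  set L := D₂ ⊔ oc X with hL
  set Y := Y₀ ⊔ oc X with hY
  have hLo : Odd (Nat.card L) :=
    odd_sup hD₂o (odd_oc X) fun d hd o ho => oc_conj_self hd.2 ho
  have hLY : L ≤ Y := sup_le
    (fun d hd => mem_sup_left ⟨oc_le _ hd.1, hd.2⟩) le_sup_right
  have hLn : ∀ y ∈ Y, ∀ l ∈ L, y * l * y⁻¹ ∈ L := by
    intro y hy
    have hle : Y ≤ normalizer (L : Set G) := sup_le
      (fun m hm => by
        have h1 : ∀ m' ∈ Y₀, L ≤ L.comap (MulAut.conj m').toMonoidHom := fun m' hm' => sup_le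
          (fun d hd => mem_sup_left (hD₂c m' hm' d hd)) (fun o ho => mem_sup_right (oc_conj_self hm'.2 ho))
        exact mem_normalizer_iff.2 fun l => ⟨fun hl => h1 m hm hl, fun hl => by
          have := h1 _ (inv_mem hm) hl
          change m⁻¹ * (m * l * m⁻¹) * m⁻¹⁻¹ ∈ L at this
          simpa [mul_assoc] using this⟩)
      ((le_sup_right : oc X ≤ L).trans le_normalizer)
    intro l hl
    exact (mem_normalizer_iff.1 (hle hy) l).1 hl
  have hYX : Y ≤ X := sup_le inf_le_right (oc_le X)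
  have hYn : ∀ h ∈ X, ∀ y ∈ Y, h * y * h⁻¹ ∈ Y := by
    intro h hh
    obtain ⟨o, ho, m, hm, he⟩ := hdec h hh
    have hx : ∀ y ∈ Y, (xN : G) * y * (xN : G)⁻¹ ∈ Y := by
      have hle : Y ≤ Y.comap (MulAut.conj (xN : G)).toMonoidHom := sup_le
        (fun m' hm' => mem_sup_left ⟨mem_centralizer_singleton_iff.2 (by
            have h1 : m' * (b * a) = (b * a) * m' := by
              rw [← mul_assoc, mem_centralizer_singleton_iff.1 hm'.1, mul_assoc,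
                mem_centralizer_singleton_iff.1 hm'.2, ← mul_assoc]
            show (xN : G) * m' * (xN : G)⁻¹ * b = b * (xN * m' * (xN : G)⁻¹)
            calc (xN : G) * m' * (xN : G)⁻¹ * b
                = xN * m' * (xN : G)⁻¹ * (xN * (b * a) * (xN : G)⁻¹) := by rw [hxab]
              _ = xN * (m' * (b * a)) * (xN : G)⁻¹ := by group
              _ = xN * ((b * a) * m') * (xN : G)⁻¹ := by rw [h1]
              _ = xN * (b * a) * (xN : G)⁻¹ * (xN * m' * (xN : G)⁻¹) := by group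
              _ = b * (xN * m' * (xN : G)⁻¹) := by rw [hxab]),
          X.mul_mem (X.mul_mem hxX hm'.2) (X.inv_mem hxX)⟩)
        (fun o' ho' => mem_sup_right (oc_conj_self hxX ho'))
      exact fun y hy => hle hy
    have hoY : o ∈ Y := mem_sup_right ho
    have hmY : m ∈ Y := mem_sup_left hm
    intro y hy
    rcases he with rfl | rfl
    · exact mul_mem (mul_mem (mul_mem hoY hmY) hy) (inv_mem (mul_mem hoY hmY))
    · rw [show o * ((xN : G) * m) * y * (o * ((xN : G) * m))⁻¹ =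
        o * ((xN : G) * (m * y * m⁻¹) * (xN : G)⁻¹) * o⁻¹ by group]
      exact mul_mem (mul_mem hoY (hx _ (mul_mem (mul_mem hmY hy) (inv_mem hmY)))) (inv_mem hoY)
  have hD₂X : D₂ ≤ oc X := (le_sup_left.trans (le_oc hLY hLo hLn)).trans (oc_mono hYX hYn)
  have hY₀dec : ∀ m ∈ Y₀, ∃ o ∈ oc X, ∃ n ∈ N, n ∈ X ∧ m = o * n := by
    intro m hm
    obtain ⟨o₁, ho₁, n₁, hn₁, hn₁b, he⟩ := hc' m hm.1
    obtain ⟨a', ha'A, ha'⟩ : ∃ a' ∈ A, n₁ * a * n₁⁻¹ = a' := by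
      exact ⟨_, by rw [ha, c.act ⟨n₁, hn₁⟩ e01]; exact c.ι_mem _, rfl⟩
    have hoa : o₁ * a' * o₁⁻¹ = a := by
      rw [← ha', show o₁ * (n₁ * a * n₁⁻¹) * o₁⁻¹ = o₁ * n₁ * a * (o₁ * n₁)⁻¹ by group, ← he]
      exact mul_inv_eq_iff_eq_mul.2 (mem_centralizer_singleton_iff.1 hm.2)
    have ha'a : a' = a := by
      have h1 : a * a'⁻¹ ∈ oc (centralizer ({b} : Set G)) := by
        rw [show a * a'⁻¹ = o₁ * (a' * o₁⁻¹ * a'⁻¹) by rw [← hoa]; group]
        exact mul_mem ho₁ (oc_conj_self (mem_centralizer_singleton_iff.2 (c.A_comm ha'A (c.ι_mem e0))) (inv_mem ho₁))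
      have h2 := eq_one_of_odd c.two_A (odd_oc _) (mul_mem (c.ι_mem e01) (inv_mem ha'A)) h1
      exact (mul_inv_eq_one.1 h2).symm
    have ho₁X : o₁ ∈ X := mem_centralizer_singleton_iff.2 (mul_inv_eq_iff_eq_mul.1 (by rwa [ha'a] at hoa))
    exact ⟨o₁, hD₂X ⟨ho₁, ho₁X⟩, n₁, hn₁,
      mem_centralizer_singleton_iff.2 (mul_inv_eq_iff_eq_mul.1 (ha'.trans ha'a)), he⟩
  obtain ⟨o, ho, m, hm, he⟩ := hdec g hg
  obtain ⟨o₁, ho₁, n₁, hn₁, hn₁X, hme⟩ := hY₀dec m hm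
  rcases he with rfl | rfl
  · exact ⟨o * o₁, mul_mem ho ho₁, n₁, hn₁, hn₁X, by rw [hme, mul_assoc]⟩
  · exact ⟨o * ((xN : G) * o₁ * (xN : G)⁻¹), mul_mem ho (oc_conj_self hxX ho₁), (xN : G) * n₁,
      N.mul_mem xN.2 hn₁, mul_mem hxX hn₁X, by rw [hme]; group⟩

/-- Every centraliser of an involution of `A`. -/
theorem ctrl_all {f : V5} (hf : ¬ eqv 0 f) : Ctrl c f := by
  have h4 : Ctrl c e4 := fun g hg => point_centralizer c g hg
  by_cases h : four f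
  · obtain ⟨n, hn⟩ := c.exists_conj basic.1 hf ⟨fun _ => h, fun _ => basic.2.1⟩
    exact ctrl_transport c hn h4
  · obtain ⟨n₀, hn₀⟩ := c.exists_conj basic.1 basic.2.2.2.2.1 ⟨fun _ => basic.2.2.2.2.2.1, fun _ => basic.2.1⟩
    obtain ⟨n, hn⟩ := c.exists_conj basic.2.2.1 hf ⟨fun h' => absurd h' basic.2.2.2.1, fun h' => absurd h' h⟩
    exact ctrl_transport c hn (pair_ctrl c (ctrl_transport c hn₀ h4))

end Cfsg.Agent.Lib.Inv59.ASixteen
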