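import Mathlib
import Cfsg.Agent.Lib.Inv59.ASixteen.Pair
import Cfsg.Agent.Lib.Coprime.Generation
import Cfsg.Agent.Lib.Involutions.StronglyEmbedded
import Cfsg.Agent.Lib.OddOrder.FeitThompson
import Cfsg.Agent.S0217

/-!
# `A O(G)` is normal
-/

set_option autoImplicit false
set_option linter.unusedSectionVars false
set_option linter.style.haveILetI false

namespace Cfsg.Agent.Lib.Inv59.ASixteen

open Equiv Subgroup

universe u

local notation "A5" => alternatingGroup (Fin 5)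

variable {G : Type u} [Group G] [Finite G] {A N O : Subgroup G} (c : Cfg A N O)

/-- The signaliser attached to an element. -/
def th (a : G) : Subgroup G := oc (centralizer {a})

include c in
theorem th_ctrl {a : G} (ha : a ∈ A) (ha1 : a ≠ 1) :
    ∀ g ∈ centralizer {a}, ∃ o ∈ th a, ∃ n ∈ N, n ∈ centralizer {a} ∧ g = o * n := by
  obtain ⟨f, rfl⟩ := c.ι_surj a ha
  exact ctrl_all c fun h => ha1 (c.eq_one.2 h)

include c in
theorem A_le_cent {a : G} (ha : a ∈ A) : A ≤ centralizer {a} := fun _ hx =>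
  mem_centralizer_singleton_iff.2 (c.A_comm hx ha)

include c in
theorem O_le_th {a : G} (ha : a ∈ A) (ha1 : a ≠ 1) : O ≤ th a := by
  have hOC : O ≤ centralizer {a} := fun o ho => mem_centralizer_singleton_iff.2 (c.O_comm o ho a ha)
  have hodd : Odd (Nat.card ↥(O ⊔ th a)) :=
    odd_sup c.O_odd (odd_oc _) fun o ho t ht => oc_conj_self (hOC ho) ht
  refine le_sup_left.trans (le_oc (sup_le hOC (oc_le _)) hodd fun g hg l hl => ?_)
  obtain ⟨o, ho, n, hn, hnC, rfl⟩ := th_ctrl c ha ha1 g hg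
  have hle : O ⊔ th a ≤ (O ⊔ th a).comap (MulAut.conj n).toMonoidHom :=
    sup_le (fun e he => mem_sup_left (c.O_norm n hn e he)) fun e he => mem_sup_right (oc_conj_self hnC he)
  have ho' : o ∈ O ⊔ th a := mem_sup_right ho
  rw [show o * n * l * (o * n)⁻¹ = o * (n * l * n⁻¹) * o⁻¹ by group]
  exact mul_mem (mul_mem ho' (hle hl)) (inv_mem ho')

include c in
/-- In `A θ(b)` an element of odd order lies in `θ(b)`. -/
theorem odd_part {b : G} (hb : b ∈ A) {p o : G} (hp : p ∈ A) (ho : o ∈ th b)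
    (hodd : Odd (orderOf (p * o))) : p = 1 := by
  obtain ⟨k, hk⟩ := hodd
  have h : ∀ m : ℕ, (p ^ m)⁻¹ * (p * o) ^ m ∈ th b := by
    intro m
    induction m with
    | zero => simp
    | succ m ih =>
      have e : (p ^ (m + 1))⁻¹ * (p * o) ^ (m + 1) = p⁻¹ * ((p ^ m)⁻¹ * (p * o) ^ m) * p⁻¹⁻¹ * o := by
        rw [pow_succ, pow_succ]; group
      rw [e]
      exact mul_mem (oc_conj_self (A_le_cent c hb (A.inv_mem hp)) ih) ho
  have h1 := h (orderOf (p * o))
  rw [pow_orderOf_eq_one, mul_one] at h1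
  have h2 : p ^ orderOf (p * o) = 1 :=
    inv_eq_one.1 (eq_one_of_odd c.two_A (odd_oc _) (A.inv_mem (A.pow_mem hp _)) h1)
  rwa [hk, pow_succ, pow_mul, pow_two, c.A_sq hp, one_pow, one_mul] at h2

include c in
theorem balance {a b : G} (ha : a ∈ A) (ha1 : a ≠ 1) (hb : b ∈ A) (hb1 : b ≠ 1) :
    th a ⊓ centralizer {b} ≤ th b := by
  rintro x ⟨hxa, hxb⟩
  obtain ⟨o, ho, m, hm, hmb, he⟩ := th_ctrl c hb hb1 x hxb
  have hm1 : c.φ ⟨m, hm⟩ = 1 := c.φ_comm fun a' ha' => by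
    obtain ⟨f, rfl⟩ := c.ι_surj a' ha'
    set a'' := m * c.ι f * m⁻¹ with ha''
    have ha''A : a'' ∈ A := by rw [ha'', c.act ⟨m, hm⟩ f]; exact c.ι_mem _
    -- the commutator with `x`
    set d := c.ι f * x * (c.ι f)⁻¹ * x⁻¹ with hd
    have hda : d ∈ th a := mul_mem (oc_conj_self (A_le_cent c ha (c.ι_mem f)) hxa) (inv_mem hxa)
    have hdb : d = c.ι f * a''⁻¹ * (a'' * o * a''⁻¹ * o⁻¹) := by
      rw [hd, ha'', he, c.inv]
      group
      rw [show c.ι f ^ (-1 : ℤ) = c.ι f by rw [zpow_neg_one, c.inv]]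
    have h1 := odd_part c hb (A.mul_mem (c.ι_mem f) (A.inv_mem ha''A))
      (mul_mem (oc_conj_self (A_le_cent c hb ha''A) ho) (inv_mem ho)) (hdb ▸ odd_orderOf (odd_oc _) hda)
    exact (mul_inv_eq_iff_eq_mul.1 (mul_inv_eq_one.1 h1).symm)
  obtain ⟨a₁, ha₁, o₁, ho₁, hme⟩ := c.dec ⟨m, hm⟩ hm1
  have hme' : m = a₁ * o₁ := hme
  have hxe : x = a₁ * (a₁⁻¹ * o * a₁⁻¹⁻¹ * o₁) := by rw [he, hme']; group
  have hmem : a₁⁻¹ * o * a₁⁻¹⁻¹ * o₁ ∈ th b :=
    mul_mem (oc_conj_self (A_le_cent c hb (A.inv_mem ha₁)) ho) (O_le_th c hb hb1 ho₁)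
  have h1 := odd_part c hb ha₁ hmem (hxe ▸ odd_orderOf (odd_oc _) hxa)
  rw [hxe, h1, one_mul]
  rw [h1] at hmem
  exact hmem

include c in
/-- An involution outside `A` whose centraliser in `S₀` is a Sylow subgroup of its centraliser. -/
theorem exists_good : ∃ x ∈ (c.S0 : Subgroup G), x * x = 1 ∧ x ∉ A ∧
    ∃ Q : Sylow 2 ↥(centralizer ({x} : Set G)),
      (Q : Subgroup ↥(centralizer ({x} : Set G))) = (c.S0 : Subgroup G).subgroupOf (centralizer {x}) := by
  classical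
  haveI := Fact.mk Nat.prime_two
  obtain ⟨x₀, hx₀, hx₀2, hx₀A⟩ := c.exists_outside
  obtain ⟨R, hR⟩ := (c.S0.2.comap_of_injective (centralizer ({x₀} : Set G)).subtype
    (Subgroup.subtype_injective _)).exists_le_sylow
  obtain ⟨S, hS⟩ := (R.2.map (centralizer ({x₀} : Set G)).subtype).exists_le_sylow
  obtain ⟨g, hg⟩ := MulAction.exists_smul_eq G S c.S0
  have hmem : ∀ s ∈ (R : Subgroup ↥(centralizer ({x₀} : Set G))), g * (s : G) * g⁻¹ ∈ (c.S0 : Subgroup G) :=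
    fun s hs => ZStar.Elements.smul_mem hg (hS ⟨s, hs, rfl⟩)
  set x := g * x₀ * g⁻¹ with hx
  have hxS : x ∈ (c.S0 : Subgroup G) :=
    hmem ⟨x₀, mem_centralizer_singleton_iff.2 rfl⟩ (hR hx₀)
  have hx2 : x * x = 1 := by
    rw [hx, show g * x₀ * g⁻¹ * (g * x₀ * g⁻¹) = g * (x₀ * x₀) * g⁻¹ by group, hx₀2, mul_one, mul_inv_cancel]
  refine ⟨x, hxS, hx2, fun hxA => hx₀A ?_, ?_⟩
  · have e : x₀ = g⁻¹ * x * g⁻¹⁻¹ := by rw [hx]; group
    rw [e]
    exact c.conj_A hxA (e ▸ c.S0_le hx₀)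
  have hc : ∀ y : G, y ∈ centralizer {x} ↔ g⁻¹ * y * g ∈ centralizer {x₀} := by
    intro y
    rw [mem_centralizer_singleton_iff, mem_centralizer_singleton_iff, hx]
    constructor <;> intro h
    · calc g⁻¹ * y * g * x₀ = g⁻¹ * (y * (g * x₀ * g⁻¹)) * g := by group
        _ = g⁻¹ * ((g * x₀ * g⁻¹) * y) * g := by rw [h]
        _ = x₀ * (g⁻¹ * y * g) := by group
    · calc y * (g * x₀ * g⁻¹) = g * (g⁻¹ * y * g * x₀) * g⁻¹ := by group
        _ = g * (x₀ * (g⁻¹ * y * g)) * g⁻¹ := by rw [h]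
        _ = g * x₀ * g⁻¹ * y := by group
  let e : ↥(centralizer ({x₀} : Set G)) ≃* ↥(centralizer ({x} : Set G)) :=
    { toFun := fun s => ⟨g * s * g⁻¹, (hc _).2 (by simpa [mul_assoc] using s.2)⟩
      invFun := fun s => ⟨g⁻¹ * s * g, (hc _).1 s.2⟩
      left_inv := fun s => Subtype.ext (by show g⁻¹ * (g * s * g⁻¹) * g = (s : G); group)
      right_inv := fun s => Subtype.ext (by show g * (g⁻¹ * s * g) * g⁻¹ = (s : G); group)
      map_mul' := fun s t => Subtype.ext (by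
        show g * ((s : G) * t) * g⁻¹ = g * s * g⁻¹ * (g * t * g⁻¹)
        group) }
  let Q : Sylow 2 ↥(centralizer ({x} : Set G)) := R.mapSurjective (f := e.toMonoidHom) e.surjective
  refine ⟨Q, le_antisymm ?_ ?_⟩
  · rintro q hq
    have hq' : q ∈ (R : Subgroup ↥(centralizer ({x₀} : Set G))).map e.toMonoidHom := hq
    obtain ⟨s, hs, rfl⟩ := hq'
    exact hmem s hs
  · exact (Q.is_maximal' (c.S0.2.comap_of_injective (centralizer ({x} : Set G)).subtype
      (Subgroup.subtype_injective _)) (by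
        rintro q hq
        have hq' : q ∈ (R : Subgroup ↥(centralizer ({x₀} : Set G))).map e.toMonoidHom := hq
        obtain ⟨s, hs, rfl⟩ := hq'
        exact hmem s hs)).le

include c in
theorem outside_centralizer {M : Subgroup G} (hNM : N ≤ M)
    (hM : ∀ a ∈ A, a ≠ 1 → centralizer {a} ≤ M) :
    ∀ y ∈ N, y * y = 1 → y ∉ A → centralizer {y} ≤ M := by
  classical
  haveI := Fact.mk Nat.prime_two
  obtain ⟨x, hxS, hx2, hxA, hQex⟩ := exists_good c
  set C := centralizer ({x} : Set G) with hC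
  obtain ⟨Q, hQ⟩ := hQex
  suffices hx : C ≤ M by
    intro y hy hy2 hyA g hg
    obtain ⟨n, hn, he⟩ := c.outside x (c.S0_le hxS) y hy hx2 hxA hy2 hyA
    have h : n⁻¹ * g * n ∈ C := by
      rw [hC, mem_centralizer_singleton_iff]
      rw [mem_centralizer_singleton_iff, ← he] at hg
      calc n⁻¹ * g * n * x = n⁻¹ * (g * (n * x * n⁻¹)) * n := by group
        _ = n⁻¹ * ((n * x * n⁻¹) * g) * n := by rw [hg]
        _ = x * (n⁻¹ * g * n) := by group
    have := mul_mem (mul_mem (hNM hn) (hx h)) (inv_mem (hNM hn))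
    simpa [mul_assoc] using this
  let xn : ↥N := ⟨x, c.S0_le hxS⟩
  have hφ1 : c.φ xn ≠ 1 := fun h => hxA (c.mem_A_of_two c.S0.2 h hxS)
  have hφ2 : c.φ xn * c.φ xn = 1 := by rw [← map_mul, show xn * xn = 1 from Subtype.ext hx2, map_one]
  obtain ⟨f, hf4, hff, hfu, g₀, hg₀, hg₀0, hg₀f⟩ := invol_fixed _ hφ2 hφ1
  have hf0 : ¬ eqv 0 f := fun h => four_ne f h hf4
  have hcC : ∀ h, eqv (rot (c.φ xn : Perm (Fin 5)) h) h → c.ι h ∈ C := fun h hh =>
    mem_centralizer_singleton_iff.2 ((c.fix_iff xn h).2 hh).symm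
  have hzC : c.ι f ∈ C := hcC f hff
  let u : ↥C := ⟨c.ι f, hzC⟩
  have hu : orderOf u = 2 := orderOf_eq_prime (by rw [pow_two]; exact Subtype.ext (c.sq f))
    fun h => hf0 (c.eq_one.1 (congrArg Subtype.val h))
  have huQ : u ∈ Q := by
    show u ∈ (Q : Subgroup ↥C)
    rw [hQ]; exact mem_subgroupOf.2 (c.A_le (c.ι_mem f))
  obtain ⟨N₀, hN₀, hN₀o, hN₀c⟩ := ZStar.UniqueCase.zstar Q u hu huQ (by
    intro h hh
    change h * u * h⁻¹ ∈ (Q : Subgroup ↥C) at hh
    rw [hQ, mem_subgroupOf] at hh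
    obtain ⟨f', he, h4, -⟩ := c.conj_in hf0 (c.S0_le hh)
    have hC' : (h : G) * c.ι f * (h : G)⁻¹ ∈ C := (h * u * h⁻¹).2
    rw [he, hC, mem_centralizer_singleton_iff] at hC'
    have := hfu f' (h4.2 hf4) ((c.fix_iff xn f').1 hC'.symm)
    exact Subtype.ext (he.trans ((c.ι_eq _ _).2 this).symm))
  haveI := hN₀
  let B : Subgroup G :=
    { carrier := {y | ∃ h, (h = 0 ∨ h = f ∨ h = g₀ ∨ h = f + g₀) ∧ c.ι h = y}
      one_mem' := ⟨0, Or.inl rfl, c.zero⟩
      mul_mem' := by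
        rintro _ _ ⟨h, hh, rfl⟩ ⟨k, hk, rfl⟩
        refine ⟨h + k, ?_, c.ι_add h k⟩
        have e1 : ∀ v : V5, v + v = 0 := Cfg.add_self
        rcases hh with rfl | rfl | rfl | rfl <;> rcases hk with rfl | rfl | rfl | rfl <;>
          simp [e1, add_comm, add_left_comm]
      inv_mem' := by
        rintro _ ⟨h, hh, rfl⟩
        exact ⟨h, hh, (c.inv h).symm⟩ }
  have hBA : B ≤ A := by rintro _ ⟨h, -, rfl⟩; exact c.ι_mem h
  have hBC : B ≤ C := by
    rintro _ ⟨h, hh, rfl⟩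
    have h1 : c.ι g₀ ∈ C := hcC g₀ hg₀
    rcases hh with rfl | rfl | rfl | rfl
    · rw [c.zero]; exact one_mem _
    · exact hzC
    · exact h1
    · rw [c.ι_add]; exact mul_mem hzC h1
  haveI : IsMulCommutative B := ⟨⟨fun a b => Subtype.ext (c.A_comm (hBA a.2) (hBA b.2))⟩⟩
  have hBcyc : ¬ IsCyclic B := by
    intro h
    obtain ⟨⟨b, hb⟩, hgen⟩ := h.exists_generator
    have hpow : ∀ y ∈ B, y = 1 ∨ y = b := by
      intro y hy
      obtain ⟨i, hi⟩ := hgen ⟨y, hy⟩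
      have hi' : b ^ i = y := by simpa using congrArg Subtype.val hi
      rcases Int.even_or_odd i with ⟨j, rfl⟩ | ⟨j, rfl⟩
      · exact Or.inl (by rw [← hi', ← two_mul, zpow_mul, zpow_two, c.A_sq (hBA hb), one_zpow])
      · exact Or.inr (by rw [← hi', zpow_add, zpow_mul, zpow_two, c.A_sq (hBA hb), one_zpow, one_mul, zpow_one])
    have h1 := (hpow _ (show c.ι f ∈ B from ⟨f, Or.inr (Or.inl rfl), rfl⟩)).resolve_left
      fun h => hf0 (c.eq_one.1 h)
    have h2 := (hpow _ (show c.ι g₀ ∈ B from ⟨g₀, Or.inr (Or.inr (Or.inl rfl)), rfl⟩)).resolve_left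
      fun h => hg₀0 (c.eq_one.1 h)
    exact hg₀f ((c.ι_eq _ _).1 (h1.trans h2.symm))
  set D := N₀.map C.subtype with hD
  have hDo : Odd (Nat.card D) := by rw [hD, card_map_of_injective C.subtype_injective]; exact hN₀o
  have hDn : ∀ h ∈ C, ∀ d ∈ D, h * d * h⁻¹ ∈ D := by
    rintro h hh _ ⟨d, hd, rfl⟩
    exact ⟨⟨h, hh⟩ * d * ⟨h, hh⟩⁻¹, hN₀.conj_mem d hd _, rfl⟩
  have hDM : D ≤ M := by
    obtain ⟨k, hk⟩ := IsPGroup.iff_card.1 (c.two_A.to_le hBA)
    conv_lhs => rw [← Coprime.iSup_centralizer_eq hBcyc (le_normalizer_of_forall fun b hb => hDn b (hBC hb))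
      (hk ▸ Nat.Coprime.pow_left k (Nat.coprime_two_left.mpr hDo))]
    exact iSup₂_le fun b hb => inf_le_right.trans (hM b (hBA hb.1) hb.2)
  intro g hg
  obtain ⟨o, ho, hn⟩ := exists_normalize (P := zpowers (c.ι f)) (O := D) (g := g)
    (c.two_A.to_le (zpowers_le.2 (c.ι_mem f))) hDo
    (fun p hp o ho => hDn p (zpowers_le.2 hzC hp) o ho) (by
      rintro _ ⟨i, rfl⟩
      have hz : ∃ d ∈ D, g * c.ι f * g⁻¹ = c.ι f * d := by
        refine ⟨_, ⟨_, hN₀c ⟨g, hg⟩, rfl⟩, ?_⟩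
        show g * c.ι f * g⁻¹ = c.ι f * (c.ι f * g * (c.ι f)⁻¹ * g⁻¹)
        rw [c.inv, show c.ι f * (c.ι f * g * c.ι f * g⁻¹) = (c.ι f * c.ι f) * (g * c.ι f * g⁻¹) by group,
          c.sq, one_mul]
      show ∃ p' ∈ zpowers (c.ι f), ∃ o ∈ D, g * c.ι f ^ i * g⁻¹ = p' * o
      rcases Int.even_or_odd i with ⟨j, rfl⟩ | ⟨j, rfl⟩
      · exact ⟨1, one_mem _, 1, one_mem _, by rw [← two_mul, zpow_mul, zpow_two, c.sq, one_zpow]; group⟩
      · obtain ⟨d, hd, he⟩ := hz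
        exact ⟨_, mem_zpowers _, d, hd, by rw [zpow_add, zpow_mul, zpow_two, c.sq, one_zpow, one_mul, zpow_one, he]⟩)
  have hfix : o * g * c.ι f * (o * g)⁻¹ = c.ι f := by
    obtain ⟨i, hi⟩ := hn _ (mem_zpowers (c.ι f))
    change c.ι f ^ i = _ at hi
    rcases Int.even_or_odd i with ⟨j, rfl⟩ | ⟨j, rfl⟩
    · rw [← two_mul, zpow_mul, zpow_two, c.sq, one_zpow, eq_comm, conj_eq_one_iff, c.eq_one] at hi
      exact absurd hi hf0
    · rw [zpow_add, zpow_mul, zpow_two, c.sq, one_zpow, one_mul, zpow_one] at hi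
      exact hi.symm
  have hgM := hM _ (c.ι_mem f) (fun h => hf0 (c.eq_one.1 h))
    (mem_centralizer_singleton_iff.2 (mul_inv_eq_iff_eq_mul.1 hfix))
  have := mul_mem (inv_mem (hDM ho)) hgM
  rwa [inv_mul_cancel_left] at this

include c in
theorem normal_sup : (A ⊔ Cfsg.oddCore G).Normal := by
  classical
  haveI := Fact.mk Nat.prime_two
  have hA16 : 2 ^ 3 ≤ Nat.card A := by
    have hinj : Function.Injective (fun v : {f : V5 // f 4 = 0} => (⟨c.ι v.1, c.ι_mem v.1⟩ : ↥A)) :=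
      fun v w h => Subtype.ext (section_inj _ _ v.2 w.2 ((c.ι_eq _ _).1 (congrArg Subtype.val h)))
    refine le_trans ?_ (Nat.card_le_card_of_injective _ hinj)
    rw [Nat.card_eq_fintype_card]
    convert section_card
  obtain ⟨hW, hWθ⟩ := S0217.result (p := 2) A (fun a ha b hb => c.A_comm ha hb)
    (fun a ha => by rw [pow_two]; exact c.A_sq ha) hA16 th (fun a _ _ => oc_le _)
    (fun a _ _ h => Nat.not_even_iff_odd.2 (odd_oc (centralizer ({a} : Set G))) (even_iff_two_dvd.2 h))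
    (fun a ha _ b hb x hx => oc_conj_self (A_le_cent c ha hb) hx)
    (fun a _ _ => OddOrder.FeitThompson.isSolvable_of_odd_card (odd_oc _))
    (fun a ha ha1 b hb hb1 => balance c ha ha1 hb hb1)
  set W := ⨆ a : {a : G // a ∈ A ∧ a ≠ 1}, th (a : G) with hWdef
  have hWo : Odd (Nat.card W) := Nat.not_even_iff_odd.1 fun h => hW h.two_dvd
  have hWN : ∀ n ∈ N, ∀ w ∈ W, n * w * n⁻¹ ∈ W := by
    intro n hn
    have hle : W ≤ W.comap (MulAut.conj n).toMonoidHom := iSup_le fun a w hw => by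
      obtain ⟨f, hf⟩ := c.ι_surj (a : G) a.2.1
      have hmem : n * (a : G) * n⁻¹ ∈ A := by rw [← hf, c.act ⟨n, hn⟩ f]; exact c.ι_mem _
      have hne : n * (a : G) * n⁻¹ ≠ 1 := fun h => a.2.2 (conj_eq_one_iff.1 h)
      exact le_iSup (fun a : {a : G // a ∈ A ∧ a ≠ 1} => th (a : G)) ⟨_, hmem, hne⟩
        (oc_centralizer_conj n hw)
    exact fun w hw => hle hw
  set M := W ⊔ N with hM
  have hCA : ∀ a ∈ A, a ≠ 1 → centralizer {a} ≤ M := fun a ha ha1 g hg => by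
    obtain ⟨o, ho, n, hn, -, rfl⟩ := th_ctrl c ha ha1 g hg
    exact mul_mem (mem_sup_left (le_iSup (fun a : {a : G // a ∈ A ∧ a ≠ 1} => th (a : G)) ⟨a, ha, ha1⟩ ho))
      (mem_sup_right hn)
  have hNM : N ≤ M := le_sup_right
  have hCN : ∀ y ∈ N, y * y = 1 → y ≠ 1 → centralizer {y} ≤ M := fun y hy hy2 hy1 => by
    by_cases hyA : y ∈ A
    · exact hCA y hyA hy1
    · exact outside_centralizer c hNM hCA y hy hy2 hyA
  -- conjugating into `N` inside `M`
  have hinto : ∀ t ∈ M, orderOf t = 2 → ∃ m ∈ M, m * t * m⁻¹ ∈ N ∧ m * t * m⁻¹ * (m * t * m⁻¹) = 1 ∧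
      m * t * m⁻¹ ≠ 1 := by
    intro t ht ht2
    have hS : (c.S0 : Subgroup G) ≤ M := c.S0_le.trans hNM
    obtain ⟨m, hm⟩ := Involutions.StronglyEmbedded.exists_conj_mem_of_sylow (G := ↥M)
      (P := c.S0.subtype hS) le_rfl (u := ⟨t, ht⟩) (by rwa [← orderOf_coe])
    refine ⟨m, m.2, c.S0_le hm, ?_, ?_⟩
    · rw [show (m : G) * t * (m : G)⁻¹ * (m * t * (m : G)⁻¹) = m * (t * t) * (m : G)⁻¹ by group,
        show t * t = 1 by rw [← pow_two, ← ht2, pow_orderOf_eq_one], mul_one, mul_inv_cancel]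
    · intro h
      rw [conj_eq_one_iff] at h
      rw [h, orderOf_one] at ht2
      omega
  have hMtop : M = ⊤ := by
    by_contra hne
    obtain ⟨x₀, hx₀, hx₀2, hx₀A⟩ := c.exists_outside
    have h2 : ∀ y : G, y * y = 1 → y ≠ 1 → orderOf y = 2 := fun y h h' =>
      orderOf_eq_prime (by rw [pow_two, h]) h'
    have hc2 : orderOf (c.ι e4) = 2 := h2 _ (c.sq e4) fun h => basic.1 (c.eq_one.1 h)
    have heven : Even (Nat.card M) := even_iff_two_dvd.2 (by
      rw [← hc2]; exact Subgroup.orderOf_dvd_natCard M (hNM (c.le (c.ι_mem e4))))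
    have hse : Cfsg.IsStronglyEmbedded M := by
      rw [Involutions.StronglyEmbedded.isStronglyEmbedded_iff_fusion hne heven]
      constructor
      · intro t ht ht2 g hg
        obtain ⟨m, hm, hmN, hm2, hm1⟩ := hinto t ht ht2
        have hgC : m * g * m⁻¹ ∈ centralizer {m * t * m⁻¹} := by
          rw [mem_centralizer_singleton_iff] at hg ⊢
          calc m * g * m⁻¹ * (m * t * m⁻¹) = m * (g * t) * m⁻¹ := by group
            _ = m * (t * g) * m⁻¹ := by rw [hg]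
            _ = m * t * m⁻¹ * (m * g * m⁻¹) := by group
        have := mul_mem (mul_mem (inv_mem hm) (hCN _ hmN hm2 hm1 hgC)) hm
        simpa [mul_assoc] using this
      · intro t ht s hs ht2 hs2 hts
        obtain ⟨m, hm, hmN, hm2, hm1⟩ := hinto t ht ht2
        obtain ⟨k, hk, hkN, hk2, hk1⟩ := hinto s hs hs2
        obtain ⟨g, hg⟩ := isConj_iff.1 hts
        set t' := m * t * m⁻¹ with ht'
        set s' := k * s * k⁻¹ with hs'
        have hconj : (k * g * m⁻¹) * t' * (k * g * m⁻¹)⁻¹ = s' := by rw [ht', hs', ← hg]; group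
        obtain ⟨n, hn, hne'⟩ : ∃ n ∈ N, n * t' * n⁻¹ = s' := by
          by_cases htA : t' ∈ A
          · obtain ⟨f, hf⟩ := c.ι_surj _ htA
            rw [← hf] at hconj hm1 ⊢
            obtain ⟨n, hn, he⟩ := c.fus _ f (hconj ▸ hkN) fun h => hm1 (c.eq_one.2 h)
            exact ⟨n, hn, he.symm.trans hconj⟩
          · by_cases hsA : s' ∈ A
            · refine absurd ?_ htA
              have e : t' = (k * g * m⁻¹)⁻¹ * s' * (k * g * m⁻¹)⁻¹⁻¹ := by rw [← hconj]; group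
              rw [e]
              exact c.conj_A hsA (e ▸ hmN)
            · exact c.outside t' hmN s' hkN hm2 htA hk2 hsA
        refine ⟨k⁻¹ * n * m, mul_mem (mul_mem (inv_mem hk) (hNM hn)) hm, ?_⟩
        calc k⁻¹ * n * m * t * (k⁻¹ * n * m)⁻¹ = k⁻¹ * (n * t' * n⁻¹) * k := by rw [ht']; group
          _ = s := by rw [hne', hs']; group
    obtain ⟨g, hg⟩ := isConj_iff.1 (Involutions.StronglyEmbedded.isConj_involutions hse hc2
      (h2 x₀ hx₀2 fun h => hx₀A (h ▸ A.one_mem)))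
    exact hx₀A (hg ▸ c.conj_A (c.ι_mem e4) (hg.symm ▸ c.S0_le hx₀))
  have hWn : W.Normal := by
    rw [← normalizer_eq_top_iff, eq_top_iff, ← hMtop]
    exact sup_le le_normalizer (le_normalizer_of_forall hWN)
  haveI hOn : (Cfsg.oddCore G).Normal := Subgroup.sSup_normal _ (fun _ h => h.1)
  have hWO : W ≤ Cfsg.oddCore G := by
    haveI := hWn
    exact Cores.le_oddCore hWo
  rw [← normalizer_eq_top_iff, eq_top_iff, ← hMtop]
  refine sup_le (hWO.trans (le_sup_right.trans le_normalizer)) (le_normalizer_of_forall fun n hn => ?_)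
  have hle : A ⊔ Cfsg.oddCore G ≤ (A ⊔ Cfsg.oddCore G).comap (MulAut.conj n).toMonoidHom := by
    refine sup_le (fun a ha => mem_sup_left ?_) fun o ho => mem_sup_right (hOn.conj_mem o ho n)
    obtain ⟨f, rfl⟩ := c.ι_surj a ha
    show n * c.ι f * n⁻¹ ∈ A
    rw [c.act ⟨n, hn⟩ f]
    exact c.ι_mem _
  exact fun a ha => hle ha

end Cfsg.Agent.Lib.Inv59.ASixteen
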