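import Mathlib
import Cfsg.Agent.Lib.Inv59.ASixteen.Facts
import Cfsg.Agent.Lib.Inv59.ASixteen.Tools

/-!
# An orbit of five elements generates the module
-/

set_option autoImplicit false
set_option linter.unusedSectionVars false
set_option linter.style.haveILetI false

namespace Cfsg.Agent.Lib.Inv59.ASixteen

open Equiv Subgroup

universe u

variable {G : Type u} [Group G] [Finite G] (A N : Subgroup G)

local notation "A5" => alternatingGroup (Fin 5)

/-- The action on an invariant set of a group element whose fifth power centralises `A`. -/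
theorem five_dvd {n : G} (h5 : ∀ a ∈ A, n ^ 5 * a * (n ^ 5)⁻¹ = a) (S : Set G) (hSA : ∀ s ∈ S, s ∈ A)
    (hS : ∀ s ∈ S, n * s * n⁻¹ ∈ S) :
    S.ncard % 5 = {s ∈ S | n * s * n⁻¹ = s}.ncard % 5 := by
  classical
  haveI := Fact.mk (Nat.prime_five)
  let σ : Perm ↥S := Equiv.ofBijective (fun s => ⟨n * s * n⁻¹, hS s s.2⟩)
    (Finite.injective_iff_bijective.1 fun a b h => Subtype.ext (by
      simpa using congrArg Subtype.val h))
  have hk : ∀ (k : ℕ) (s : ↥S), (((σ ^ k) s : ↥S) : G) = n ^ k * s * (n ^ k)⁻¹ := by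
    intro k
    induction k with
    | zero => intro s; simp
    | succ k ih =>
      intro s
      rw [pow_succ' σ, Perm.mul_apply]
      show n * ((σ ^ k) s : G) * n⁻¹ = _
      rw [ih s, pow_succ']; group
  have hσ : σ ^ 5 ^ 1 = 1 := by
    refine Equiv.ext fun s => Subtype.ext ?_
    rw [pow_one, hk]
    exact h5 s (hSA s s.2)
  haveI : Fintype ↥S := Fintype.ofFinite _
  have h := Equiv.Perm.card_compl_support_modEq hσ
  have hfix : σ.supportᶜ.card = {s ∈ S | n * s * n⁻¹ = s}.ncard := by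
    rw [← Set.ncard_coe_finset, ← Nat.card_coe_set_eq, ← Nat.card_coe_set_eq]
    refine Nat.card_congr
      { toFun := fun s => ⟨s.1.1, s.1.2, ?_⟩
        invFun := fun s => ⟨⟨s.1, s.2.1⟩, ?_⟩
        left_inv := fun s => rfl
        right_inv := fun s => rfl }
    · have := Perm.notMem_support.1 (Finset.mem_compl.1 (Finset.mem_coe.1 s.2))
      exact congrArg Subtype.val this
    · exact Finset.mem_coe.2 (Finset.mem_compl.2 (Perm.notMem_support.2 (Subtype.ext s.2.2)))
  rw [hfix, ← Nat.card_eq_fintype_card, Nat.card_coe_set_eq] at h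
  exact h.symm

variable (hA : ∀ a ∈ A, a * a = 1) (h16 : Nat.card A = 16) (hnA : ∀ n ∈ N, ∀ a ∈ A, n * a * n⁻¹ ∈ A)
  (hAN : A ≤ N) (φ : ↥N →* A5) (hφ : Function.Surjective φ)
  (hker : ∀ n : ↥N, φ n = 1 ↔ ∀ a ∈ A, (n : G) * a * (n : G)⁻¹ = a)

include hA h16 hnA hker in
/-- Elements of order five act without fixed points. -/
theorem five_free {n : ↥N} (h5 : φ n ^ 5 = 1) (h1 : φ n ≠ 1) {a : G} (ha : a ∈ A)
    (hfix : (n : G) * a * (n : G)⁻¹ = a) : a = 1 := by
  have h5' : ∀ x ∈ A, (n : G) ^ 5 * x * ((n : G) ^ 5)⁻¹ = x := fun x hx => by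
    have := (hker (n ^ 5)).1 (by rw [map_pow, h5]) x hx
    simpa using this
  have h := five_dvd A h5' (A : Set G) (fun _ h => h) (fun s hs => hnA n n.2 s hs)
  have hset : {s ∈ (A : Set G) | (n : G) * s * (n : G)⁻¹ = s} =
      ((A ⊓ centralizer {(n : G)} : Subgroup G) : Set G) := by
    ext x
    simp only [Set.mem_ofPred_eq, SetLike.mem_coe, mem_inf, mem_centralizer_singleton_iff,
      mul_inv_eq_iff_eq_mul]
    exact and_congr_right fun _ => eq_comm
  rw [hset, ← Nat.card_coe_set_eq, ← Nat.card_coe_set_eq] at h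
  obtain ⟨b, hb4, hb⟩ := (Nat.dvd_prime_pow Nat.prime_two).1
    (show Nat.card ↥(A ⊓ centralizer {(n : G)}) ∣ 2 ^ 4 by
      rw [show (2 : ℕ) ^ 4 = Nat.card A by rw [h16]; rfl]; exact card_dvd_of_le inf_le_left)
  change Nat.card A % 5 = Nat.card ↥(A ⊓ centralizer {(n : G)}) % 5 at h
  rw [h16, hb] at h
  have hmem : a ∈ A ⊓ centralizer {(n : G)} :=
    ⟨ha, mem_centralizer_singleton_iff.2 (mul_inv_eq_iff_eq_mul.1 hfix).symm⟩
  interval_cases b
  · rw [pow_zero] at hb
    rwa [card_eq_one.1 hb, mem_bot] at hmem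
  all_goals (norm_num at h)
  refine absurd ((hker n).2 fun x hx => ?_) h1
  have hle : A ≤ A ⊓ centralizer {(n : G)} :=
    (eq_of_le_of_card_ge inf_le_left (by rw [hb, h16]; norm_num)).ge
  rw [← mem_centralizer_singleton_iff.1 (hle hx).2, mul_inv_cancel_right]

include hA h16 hnA hker hφ in
/-- An invariant set of nontrivial elements has a multiple of five elements. -/
theorem five_set (S : Set G) (hSA : ∀ s ∈ S, s ∈ A ∧ s ≠ 1) (hS : ∀ n ∈ N, ∀ s ∈ S, n * s * n⁻¹ ∈ S) :
    S.ncard % 5 = 0 := by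
  obtain ⟨π, hπ, hπ1⟩ : ∃ π : A5, π ^ 5 = 1 ∧ π ≠ 1 := by decide +kernel
  obtain ⟨n, rfl⟩ := hφ π
  rw [five_dvd A (fun x hx => by
      have := (hker (n ^ 5)).1 (by rw [map_pow, hπ]) x hx
      rwa [Subgroup.coe_pow] at this) S (fun s hs => (hSA s hs).1)
    (hS n n.2)]
  rw [show {s ∈ S | (n : G) * s * (n : G)⁻¹ = s} = ∅ from Set.eq_empty_of_forall_notMem fun s hs =>
    (hSA s hs.1).2 (five_free A N hA h16 hnA φ hker hπ hπ1 (hSA s hs.1).1 hs.2)]
  simp

include hA h16 hnA hker hφ in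
/-- The module, from an orbit of five elements. -/
theorem module (S : Set G) (hSA : ∀ s ∈ S, s ∈ A ∧ s ≠ 1) (hS : ∀ n ∈ N, ∀ s ∈ S, n * s * n⁻¹ ∈ S)
    (h5 : S.ncard = 5) :
    ∃ φ' : ↥N →* A5, Function.Surjective φ' ∧ (∀ n, φ' n = 1 ↔ φ n = 1) ∧
      ∃ ι : V5 → G, (∀ f, ι f ∈ A) ∧ (∀ a ∈ A, ∃ f, ι f = a) ∧
        (∀ f g, ι (f + g) = ι f * ι g) ∧ (∀ f g, ι f = ι g ↔ eqv f g) ∧
        ∀ (n : ↥N) f, (n : G) * ι f * (n : G)⁻¹ = ι (rot (φ' n : Perm (Fin 5)) f) := by
  classical
  haveI : IsSimpleGroup A5 := alternatingGroup.isSimpleGroup (by simp)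
  obtain ⟨π, hπ5, hπ1⟩ : ∃ π : A5, π ^ 5 = 1 ∧ π ≠ 1 := by decide +kernel
  obtain ⟨n5, rfl⟩ := hφ π
  have free := @five_free _ _ _ A N hA h16 hnA φ hker n5 hπ5 hπ1
  let e : ↥S ≃ Fin 5 := Finite.equivFinOfCardEq (by rw [Nat.card_coe_set_eq]; exact h5)
  letI act : MulAction ↥N ↥S :=
    { smul := fun n s => ⟨(n : G) * s * (n : G)⁻¹, hS n n.2 s s.2⟩
      one_smul := fun s => Subtype.ext (by show (1 : G) * s * 1⁻¹ = s; simp)
      mul_smul := fun m n s => Subtype.ext (by
        show ((m : G) * n) * s * ((m : G) * n)⁻¹ = m * (n * s * (n : G)⁻¹) * (m : G)⁻¹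
        group) }
  let σ : ↥N →* Perm (Fin 5) := e.permCongrHom.toMonoidHom.comp (MulAction.toPermHom ↥N ↥S)
  let p : Fin 5 → G := fun i => (e.symm i : ↥S)
  have hp : ∀ (n : ↥N) i, (n : G) * p i * (n : G)⁻¹ = p (σ n i) := fun n i => by
    show _ = (e.symm (e (n • e.symm i)) : G)
    rw [e.symm_apply_apply]; rfl
  have hp1 : ∀ i, p i ≠ 1 := fun i => (hSA _ (e.symm i).2).2
  have hpA : ∀ i, p i ∈ A := fun i => (hSA _ (e.symm i).2).1
  -- kernel
  have hk1 : φ.ker ≤ σ.ker := fun n hn => by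
    rw [MonoidHom.mem_ker] at hn ⊢
    refine Equiv.ext fun i => e.symm.injective (Subtype.ext ?_)
    exact (hp n i).symm.trans ((hker n).1 hn _ (hpA i))
  have hk : σ.ker = φ.ker := by
    refine le_antisymm ?_ hk1
    have hK : (σ.ker.map φ).comap φ = σ.ker := by rw [comap_map_eq, sup_eq_left.2 hk1]
    rcases (Subgroup.Normal.map (inferInstance : σ.ker.Normal) φ hφ).eq_bot_or_eq_top with h | h
    · rw [← hK, h, MonoidHom.comap_bot]
    · rw [h, comap_top] at hK
      refine absurd ?_ (hp1 0)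
      refine free (hpA 0) ((hp n5 0).trans ?_)
      have hn5 : n5 ∈ σ.ker := by rw [← hK]; exact mem_top n5
      rw [MonoidHom.mem_ker.1 hn5, Perm.one_apply]
  have hrange : σ.range = alternatingGroup (Fin 5) := by
    refine Equiv.Perm.eq_alternatingGroup_of_index_eq_two ?_
    have h60 : Nat.card σ.range = 60 := by
      rw [← index_ker, hk, index_ker, MonoidHom.range_eq_top.2 hφ, card_top, nat_card_alternatingGroup,
        Nat.card_fin]
      decide
    have h := card_mul_index σ.range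
    rw [h60, Nat.card_perm, Nat.card_fin] at h
    have : (5 : ℕ).factorial = 120 := by decide
    omega
  let φ' : ↥N →* A5 := σ.codRestrict _ fun n => hrange ▸ ⟨n, rfl⟩
  have hφ' : Function.Surjective φ' := fun π => by
    obtain ⟨n, hn⟩ : (π : Perm (Fin 5)) ∈ σ.range := by rw [hrange]; exact π.2
    exact ⟨n, Subtype.ext hn⟩
  refine ⟨φ', hφ', fun n => ?_, ?_⟩
  · constructor
    · intro h
      have : n ∈ σ.ker := congrArg Subtype.val h
      rwa [hk] at this
    · intro h
      exact Subtype.ext (hk1 h)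
  -- the map
  letI : CommGroup ↥A := { (inferInstance : Group ↥A) with
    mul_comm := fun a b => Subtype.ext (show (a : G) * b = b * a by
      have h := hA _ (A.mul_mem a.2 b.2)
      calc (a : G) * b = ((a : G) * b)⁻¹ := eq_inv_of_mul_eq_one_left h
        _ = b * a := by
          rw [mul_inv_rev, inv_eq_of_mul_eq_one_right (hA a a.2), inv_eq_of_mul_eq_one_right (hA b b.2)]) }
  let P : Fin 5 → ↥A := fun i => ⟨p i, hpA i⟩
  let j : V5 → ↥A := fun f => ∏ i, P i ^ (f i).val
  have hz : ∀ (x : ↥A) (a b : ZMod 2), x ^ (a + b).val = x ^ a.val * x ^ b.val := by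
    intro x a b
    have h2 : x ^ 2 = 1 := by rw [pow_two]; exact Subtype.ext (hA x x.2)
    rw [← pow_add, pow_eq_pow_mod (a.val + b.val) h2, ZMod.val_add]
  have hadd : ∀ f g, j (f + g) = j f * j g := fun f g => by
    simp only [j, Pi.add_apply, hz, Finset.prod_mul_distrib]
  have hact : ∀ (n : ↥N) f, (n : G) * (j f : G) * (n : G)⁻¹ = (j (rot (σ n) f) : G) := by
    intro n f
    let cn : ↥A →* ↥A :=
      { toFun := fun a => ⟨(n : G) * a * (n : G)⁻¹, hnA n n.2 a a.2⟩
        map_one' := Subtype.ext (by simp)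
        map_mul' := fun a b => Subtype.ext (by
          show (n : G) * (a * b : G) * (n : G)⁻¹ = n * a * (n : G)⁻¹ * (n * b * (n : G)⁻¹)
          group) }
    have h : cn (j f) = j (rot (σ n) f) := by
      simp only [j, map_prod, map_pow]
      rw [← Equiv.prod_comp (σ n) (fun i => P i ^ (rot (σ n) f i).val)]
      refine Finset.prod_congr rfl fun i _ => ?_
      rw [show cn (P i) = P (σ n i) from Subtype.ext (hp n i)]
      simp [rot]
    exact congrArg Subtype.val h
  have h0 : j 0 = 1 := by simp [j]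
  have hone : j 1 = 1 := Subtype.ext (free (j 1).2 (by
    rw [hact]
    rfl))
  let J : Multiplicative V5 →* ↥A :=
    { toFun := fun f => j f.toAdd
      map_one' := h0
      map_mul' := fun f g => hadd _ _ }
  have hsingle : ∀ i, j (Pi.single i 1) = P i := by
    intro i
    simp only [j]
    rw [Finset.prod_eq_single i (fun k _ hk => by simp [Pi.single_eq_of_ne hk]) (by simp)]
    simp [ZMod.val_one]
  have hrangeJ : Nat.card J.range = 16 := by
    let R : Subgroup G := J.range.map A.subtype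
    have hRc : Nat.card R = Nat.card J.range := card_map_of_injective A.subtype_injective
    have hpR : ∀ i, p i ∈ R := fun i => ⟨P i, ⟨Multiplicative.ofAdd (Pi.single i 1), hsingle i⟩, rfl⟩
    have hnR : ∀ n ∈ N, ∀ r ∈ R, n * r * n⁻¹ ∈ R := by
      rintro n hn _ ⟨_, ⟨f, rfl⟩, rfl⟩
      exact ⟨_, ⟨Multiplicative.ofAdd (rot (σ ⟨n, hn⟩) f.toAdd), rfl⟩, (hact ⟨n, hn⟩ _).symm⟩
    have hRA : R ≤ A := map_subtype_le _
    have h5 := five_set A N hA h16 hnA φ hφ hker ((R : Set G) \ {1})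
      (fun s hs => ⟨hRA hs.1, hs.2⟩)
      (fun n hn s hs => ⟨hnR n hn s hs.1, fun h => hs.2 (by
        rw [Set.mem_singleton_iff, mul_inv_eq_one, mul_eq_left] at h
        exact h)⟩)
    rw [Set.ncard_sdiff_singleton_of_mem (one_mem R), ← Nat.card_coe_set_eq] at h5
    obtain ⟨b, hb4, hb⟩ := (Nat.dvd_prime_pow Nat.prime_two).1
      (show Nat.card R ∣ 2 ^ 4 by
        rw [show (2 : ℕ) ^ 4 = Nat.card A by rw [h16]; rfl]; exact card_dvd_of_le hRA)
    have hge : 6 ≤ Nat.card R := by
      have hsub : insert 1 S ⊆ (R : Set G) := Set.insert_subset (one_mem R) fun s hs => by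
        have := hpR (e ⟨s, hs⟩)
        simpa [p] using this
      have := Set.ncard_le_ncard hsub
      rw [Set.ncard_insert_of_notMem (fun h => (hSA 1 h).2 rfl), ‹S.ncard = 5›,
        ← Nat.card_coe_set_eq] at this
      exact this
    change (Nat.card R - 1) % 5 = 0 at h5
    rw [hb] at h5 hge
    rw [← hRc, hb]
    interval_cases b  <;> revert h5 hge <;> norm_num
  have hsurjJ : Function.Surjective J := by
    intro a
    have : J.range = ⊤ := eq_top_of_card_eq _ (by rw [hrangeJ, h16])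
    exact (this ▸ mem_top a : a ∈ J.range)
  have hkerJ : ∀ f, j f = 1 → eqv 0 f := by
    have hc : Nat.card J.ker = 2 := by
      have h := card_mul_index J.ker
      rw [index_ker, hrangeJ] at h
      have h32 : Nat.card (Multiplicative V5) = 32 := by
        rw [Nat.card_eq_fintype_card]; decide
      omega
    intro f hf
    by_contra hcon
    have hsub : ({Multiplicative.ofAdd (0 : V5), Multiplicative.ofAdd (1 : V5),
        Multiplicative.ofAdd f} : Set (Multiplicative V5)) ⊆ (J.ker : Set (Multiplicative V5)) := by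
      rintro x (rfl | rfl | rfl)
      · exact h0
      · exact hone
      · exact hf
    have h3 := Set.ncard_le_ncard hsub
    rw [Set.ncard_eq_three.2 ⟨_, _, _, ?_, ?_, ?_, rfl⟩, ← Nat.card_coe_set_eq] at h3
    · change 3 ≤ Nat.card J.ker at h3
      omega
    · intro h
      exact absurd (Multiplicative.ofAdd.injective h) (by decide)
    · intro h
      exact hcon (Or.inl (Multiplicative.ofAdd.injective h).symm)
    · intro h
      exact hcon (Or.inr ((Multiplicative.ofAdd.injective h).symm.trans (zero_add _).symm))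
  refine ⟨fun f => (j f : G), fun f => (j f).2, fun a ha => ?_,
    fun f g => congrArg Subtype.val (hadd f g), fun f g => ⟨fun h => ?_, fun h => ?_⟩, hact⟩
  · obtain ⟨f, hf⟩ := hsurjJ ⟨a, ha⟩
    exact ⟨f.toAdd, congrArg Subtype.val hf⟩
  · have h1 : j (f + g) = 1 := by
      rw [hadd, Subtype.ext h]
      exact Subtype.ext (hA _ (j g).2)
    exact (by decide +kernel : ∀ f g : V5, eqv 0 (f + g) → eqv f g) f g (hkerJ _ h1)
  · rcases h with rfl | rfl
    · rfl
    · show (j f : G) = (j (f + 1) : G)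
      rw [hadd, hone, mul_one]

end Cfsg.Agent.Lib.Inv59.ASixteen
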