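import Mathlib
import Cfsg.Agent.Lib.Inv59.ASixteen.Config
import Cfsg.Agent.Lib.Inv59.ASixteen.Orbit
import Cfsg.Agent.Lib.Inv59.RankFour.Five
import Cfsg.Agent.Lib.Inv59.RankFour.RadicalA8
import Cfsg.Agent.Lib.Involutions.StronglyEmbedded
import Cfsg.Prelude.Def_Transfer

/-!
# The configuration from three classes of involutions
-/

set_option autoImplicit false
set_option linter.unusedSectionVars false
set_option linter.style.haveILetI false

namespace Cfsg.Agent.Lib.Inv59.ASixteen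

open Equiv Subgroup

universe u

local notation "A8" => alternatingGroup (Fin 8)
local notation "A5" => alternatingGroup (Fin 5)

theorem card_sylow_A8 (P : Sylow 2 ↥A8) : Nat.card (P : Subgroup ↥A8) = 64 := by
  haveI := Fact.mk Nat.prime_two
  obtain ⟨k, hk⟩ := IsPGroup.iff_card.1 P.2
  have hm := card_mul_index (P : Subgroup ↥A8)
  rw [hk, RankFour.card_A8] at hm
  have hodd := P.not_dvd_index
  have hk6 : k ≤ 6 := by
    by_contra h
    have : 2 ^ 7 ∣ 20160 := hm ▸ ((pow_dvd_pow 2 (show 7 ≤ k by omega)).trans (dvd_mul_right _ _))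
    norm_num at this
  rw [hk]
  interval_cases k <;> omega

/-- The centre of a Sylow 2-subgroup of `A₈` acts without fixed points. -/
theorem center_small (P : Sylow 2 ↥A8) : Nat.card (Subgroup.center ↥(P : Subgroup ↥A8)) ≤ 8 := by
  classical
  let P' : Subgroup ↥A8 := P
  have htr : ∀ i : Fin 8, ∃ p : ↥P', (p : ↥A8) • (0 : Fin 8) = i := by
    haveI : MulAction.IsPretransitive ↥A8 (Fin 8) :=
      ⟨fun i j => by
        obtain ⟨a, b, hs, he⟩ := (by decide +kernel : ∀ i j : Fin 8, ∃ a b : Fin 8,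
          Perm.sign (Equiv.swap a b * Equiv.swap i j) = 1 ∧ (Equiv.swap a b * Equiv.swap i j) i = j) i j
        exact ⟨⟨_, Perm.mem_alternatingGroup.2 hs⟩, he⟩⟩
    have horb : (MulAction.orbit ↥P' (0 : Fin 8)).ncard = 8 := by
      refine le_antisymm ((Set.ncard_le_ncard (Set.subset_univ _)).trans_eq (by
        rw [Set.ncard_univ, Nat.card_fin])) ?_
      by_contra hlt
      have hs := MulAction.index_stabilizer ↥P' (0 : Fin 8)
      have hm := card_mul_index (MulAction.stabilizer ↥P' (0 : Fin 8))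
      rw [show Nat.card ↥P' = 64 from card_sylow_A8 P] at hm
      have h8 := card_mul_index (MulAction.stabilizer ↥A8 (0 : Fin 8))
      rw [MulAction.index_stabilizer_of_transitive, Nat.card_fin, RankFour.card_A8] at h8
      have hd : Nat.card (MulAction.stabilizer ↥P' (0 : Fin 8)) ∣
          Nat.card (MulAction.stabilizer ↥A8 (0 : Fin 8)) := by
        let f : ↥(MulAction.stabilizer ↥P' (0 : Fin 8)) →* ↥(MulAction.stabilizer ↥A8 (0 : Fin 8)) :=
          { toFun := fun p => ⟨((p : ↥P') : ↥A8), p.2⟩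
            map_one' := rfl
            map_mul' := fun _ _ => rfl }
        refine Subgroup.card_dvd_of_injective f fun a b h => ?_
        have h' := congrArg (fun q : ↥(MulAction.stabilizer ↥A8 (0 : Fin 8)) => ((q : ↥A8) : Perm (Fin 8))) h
        exact Subtype.ext (Subtype.ext (Subtype.ext h'))
      rw [show Nat.card (MulAction.stabilizer ↥A8 (0 : Fin 8)) = 2520 by omega] at hd
      rw [← hs] at hlt
      have h64 : Nat.card (MulAction.stabilizer ↥P' (0 : Fin 8)) ∣ 8 := by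
        have := Nat.dvd_gcd (Dvd.intro _ hm) hd
        rwa [show Nat.gcd 64 2520 = 8 by norm_num] at this
      have := Nat.le_of_dvd (by norm_num) h64
      have h64' : Nat.card (MulAction.stabilizer ↥P' (0 : Fin 8)) *
          (MulAction.stabilizer ↥P' (0 : Fin 8)).index ≤ 8 * 7 := Nat.mul_le_mul this (by omega)
      omega
    intro i
    have huniv : MulAction.orbit ↥P' (0 : Fin 8) = Set.univ :=
      Set.eq_of_subset_of_ncard_le (Set.subset_univ _) (by
        rw [horb, Set.ncard_univ, Nat.card_fin])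
    obtain ⟨p, hp⟩ := (huniv ▸ Set.mem_univ i : i ∈ MulAction.orbit ↥P' (0 : Fin 8))
    exact ⟨p, hp⟩
  have hinj : Function.Injective fun z : Subgroup.center ↥P' => ((z : ↥P') : ↥A8) • (0 : Fin 8) := by
    intro z w h
    refine Subtype.ext (Subtype.ext (Subtype.ext (Equiv.ext fun i => ?_)))
    obtain ⟨p, rfl⟩ := htr i
    have hz : ((z : ↥P') : ↥A8) * p = p * ((z : ↥P') : ↥A8) :=
      (congrArg Subtype.val (Subgroup.mem_center_iff.1 z.2 p)).symm
    have hw : ((w : ↥P') : ↥A8) * p = p * ((w : ↥P') : ↥A8) :=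
      (congrArg Subtype.val (Subgroup.mem_center_iff.1 w.2 p)).symm
    show ((z : ↥P') : ↥A8) • ((p : ↥A8) • (0 : Fin 8)) = ((w : ↥P') : ↥A8) • ((p : ↥A8) • (0 : Fin 8))
    simp only at h
    rw [← mul_smul, ← mul_smul, hz, hw, mul_smul, mul_smul, h]
  have := Nat.card_le_card_of_injective _ hinj
  rwa [Nat.card_fin] at this

variable {G : Type u} [Group G] [Finite G]

set_option maxHeartbeats 1000000 in
theorem exists_cfg (S : Sylow 2 G) (P : Sylow 2 ↥A8)
    (hS : Nonempty (↥(S : Subgroup G) ≃* ↥(P : Subgroup ↥A8)))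
    (h3 : Nat.card {c : ConjClasses G // ∃ x ∈ c.carrier, orderOf x = 2} = 3)
    (A : Subgroup G) (hA : Cfsg.IsElementaryAbelian 2 A) (hA16 : Nat.card ↥A = 16)
    (N : Subgroup G) (hN : N = Subgroup.normalizer (A : Set G))
    (hNA : ∃ (_ : (A.subgroupOf N ⊔ Cfsg.oddCore ↥N).Normal),
      Nonempty (↥N ⧸ (A.subgroupOf N ⊔ Cfsg.oddCore ↥N) ≃* A5)) :
    Nonempty (Cfg A N (oc N)) := by
  classical
  haveI := Fact.mk Nat.prime_two
  obtain ⟨hnorm, ⟨iso⟩⟩ := hNA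
  have hA2 : ∀ a ∈ A, a * a = 1 := fun a ha => by rw [← pow_two]; exact hA.2 a ha
  have hAN : A ≤ N := hN ▸ le_normalizer
  have hnA : ∀ n ∈ N, ∀ a ∈ A, n * a * n⁻¹ ∈ A := fun n hn a ha => by
    rw [hN] at hn; exact (mem_normalizer_iff.1 hn a).1 ha
  have hmemN : ∀ g, (∀ a ∈ A, g * a * g⁻¹ ∈ A) → g ∈ N := fun g hg => by
    have hmap : A.map (MulAut.conj g).toMonoidHom = A := eq_of_le_of_card_ge
      (by rintro _ ⟨a, ha, rfl⟩; exact hg a ha)
      (card_map_of_injective (MulAut.conj g).injective).ge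
    rw [hN]
    refine mem_normalizer_iff.2 fun x => ⟨hg x, fun hx => ?_⟩
    obtain ⟨a, ha, he⟩ := (hmap.symm ▸ hx : g * x * g⁻¹ ∈ A.map (MulAut.conj g).toMonoidHom)
    rwa [← (MulAut.conj g).injective he]
  have hA2p : IsPGroup 2 A := isPGroup_sq hA2
  set O := oc N with hO
  have hOodd : Odd (Nat.card O) := odd_oc N
  have hOnorm : ∀ n ∈ N, ∀ o ∈ O, n * o * n⁻¹ ∈ O := fun n hn o ho => oc_conj_self hn ho
  have hOc : ∀ o ∈ O, ∀ a ∈ A, o * a = a * o := fun o ho a ha => by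
    have h1 : o * a * o⁻¹ * a⁻¹ ∈ A := A.mul_mem (hnA o (oc_le N ho) a ha) (A.inv_mem ha)
    have h2 : o * a * o⁻¹ * a⁻¹ ∈ O := by
      rw [show o * a * o⁻¹ * a⁻¹ = o * (a * o⁻¹ * a⁻¹) by group]
      exact O.mul_mem ho (hOnorm a (hAN ha) _ (O.inv_mem ho))
    have h := eq_one_of_odd hA2p hOodd h1 h2
    rwa [mul_inv_eq_one, mul_inv_eq_iff_eq_mul] at h
  -- the quotient map
  haveI := hnorm
  set K := A.subgroupOf N ⊔ Cfsg.oddCore ↥N with hK
  let φ₀ : ↥N →* A5 := iso.toMonoidHom.comp (QuotientGroup.mk' K)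
  have hφ₀ : Function.Surjective φ₀ := iso.surjective.comp (QuotientGroup.mk'_surjective K)
  have hker₀ : φ₀.ker = K := by
    ext n
    rw [MonoidHom.mem_ker]
    show iso (QuotientGroup.mk' K n) = 1 ↔ n ∈ K
    rw [EmbeddingLike.map_eq_one_iff]
    exact QuotientGroup.eq_one_iff n
  haveI : (Cfsg.oddCore ↥N).Normal := Subgroup.sSup_normal _ (fun _ h => h.1)
  have hdec : ∀ n : ↥N, φ₀ n = 1 → ∃ a ∈ A, ∃ o ∈ O, (n : G) = a * o := fun n hn => by
    obtain ⟨a, ha, o, ho, he⟩ := mem_sup_of_normal_right.1 (hker₀ ▸ hn : n ∈ K)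
    exact ⟨a, ha, o, ⟨o, ho, rfl⟩, by rw [← he]; rfl⟩
  have hφA : ∀ n : ↥N, (n : G) ∈ A → φ₀ n = 1 := fun n hn => by
    have : n ∈ φ₀.ker := hker₀.symm ▸ mem_sup_left hn
    exact this
  -- Sylow 2
  obtain ⟨eS⟩ := hS
  have hS64 : Nat.card (S : Subgroup G) = 64 := by rw [Nat.card_congr eS.toEquiv, card_sylow_A8]
  obtain ⟨S0, hS0N, hAS0⟩ : ∃ S0 : Sylow 2 G, (S0 : Subgroup G) ≤ N ∧ A ≤ (S0 : Subgroup G) := by
    have h64 : 2 ^ 6 ∣ Nat.card ↥N := by
      rw [card_eq_card_quotient_mul_card_subgroup K, Nat.card_congr iso.toEquiv, RankFour.card_A5]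
      have : 16 ∣ Nat.card K := by
        have h := card_dvd_of_le (le_sup_left : A.subgroupOf N ≤ K)
        rwa [Nat.card_congr (subgroupOfEquivOfLe hAN).toEquiv, hA16] at h
      obtain ⟨j, hj⟩ := this
      exact ⟨15 * j, by rw [hj]; ring⟩
    obtain ⟨T, hT⟩ := Sylow.exists_subgroup_card_pow_prime 2 h64
    have hTc : Nat.card (T.map N.subtype) = 64 := by
      rw [card_map_of_injective N.subtype_injective, hT]; norm_num
    refine ⟨Sylow.ofCard (T.map N.subtype) (by rw [hTc, ← hS64]; exact S.card_eq_multiplicity),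
      map_subtype_le _, ?_⟩
    rw [Sylow.coe_ofCard]
    have hTp : IsPGroup 2 ↥(T.map N.subtype) := IsPGroup.of_card (n := 6) (by rw [hTc]; norm_num)
    have hsup : IsPGroup 2 ↥(A ⊔ T.map N.subtype) :=
      hA2p.to_sup_of_normal_left' hTp (le_normalizer_of_forall fun t ht a ha =>
        hnA t (map_subtype_le _ ht) a ha)
    obtain ⟨Q, hQ⟩ := hsup.exists_le_sylow
    have : T.map N.subtype = (Q : Subgroup G) := eq_of_le_of_card_ge (le_sup_right.trans hQ) (by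
      rw [hTc, Q.card_eq_multiplicity, ← S.card_eq_multiplicity, hS64])
    rw [this]
    exact le_sup_left.trans hQ
  -- some element moves `A`
  have hmove : ∃ n : ↥N, ∃ a ∈ A, (n : G) * a * (n : G)⁻¹ ≠ a := by
    by_contra hcon
    push Not at hcon
    let e := (S0.equiv S).trans eS
    have hle : (A.subgroupOf (S0 : Subgroup G)).map e.toMonoidHom ≤ Subgroup.center _ := by
      rintro _ ⟨a, ha, rfl⟩
      rw [Subgroup.mem_center_iff]
      intro q
      obtain ⟨s, rfl⟩ := e.surjective q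
      show e s * e a = e a * e s
      rw [← map_mul, ← map_mul, show s * a = a * s from Subtype.ext
        (mul_inv_eq_iff_eq_mul.1 (hcon ⟨s, hS0N s.2⟩ a ha))]
    have := (card_le_of_le hle).trans (center_small P)
    rw [card_map_of_injective e.injective, Nat.card_congr (subgroupOfEquivOfLe hAS0).toEquiv, hA16] at this
    omega
  have hker : ∀ n : ↥N, φ₀ n = 1 ↔ ∀ a ∈ A, (n : G) * a * (n : G)⁻¹ = a := by
    let C : Subgroup ↥N := (centralizer (A : Set G)).subgroupOf N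
    haveI : C.Normal := ⟨fun x hx g => mem_subgroupOf.2 (mem_centralizer_iff.2 fun a ha => by
      have hb : (g : G)⁻¹ * a * g ∈ A := by
        simpa using hnA _ (N.inv_mem g.2) a ha
      have hc := mem_centralizer_iff.1 (mem_subgroupOf.1 hx) _ hb
      simp only [Subgroup.coe_mul, Subgroup.coe_inv]
      calc a * ((g : G) * x * (g : G)⁻¹) = g * ((g : G)⁻¹ * a * g * x) * (g : G)⁻¹ := by group
        _ = g * (x * ((g : G)⁻¹ * a * g)) * (g : G)⁻¹ := by rw [hc]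
        _ = (g : G) * x * (g : G)⁻¹ * a := by group)⟩
    have hle : φ₀.ker ≤ C := fun n hn => by
      obtain ⟨a', ha', o, ho, he⟩ := hdec n hn
      refine mem_subgroupOf.2 (mem_centralizer_iff.2 fun a ha => ?_)
      rw [he, ← mul_assoc, show a * a' = a' * a from
        congrArg Subtype.val (hA.1.1.comm ⟨a, ha⟩ ⟨a', ha'⟩), mul_assoc, ← hOc o ho a ha, mul_assoc]
    rcases RankFour.normal_above hφ₀ (Q := φ₀.ker) rfl C hle with h | h
    · intro n
      rw [← MonoidHom.mem_ker, ← h, mem_subgroupOf, mem_centralizer_iff]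
      exact forall₂_congr fun a _ => by rw [mul_inv_eq_iff_eq_mul]; exact eq_comm
    · obtain ⟨n, a, ha, hne⟩ := hmove
      refine absurd ?_ hne
      rw [mul_inv_eq_iff_eq_mul]
      exact (mem_centralizer_iff.1 (mem_subgroupOf.1 (h.symm ▸ mem_top n : n ∈ C)) a ha).symm
  have free := @five_free _ _ _ A N hA2 hA16 hnA φ₀ hker
  -- involutions outside `A`
  have hout : ∀ x ∈ N, ∀ y ∈ N, x * x = 1 → x ∉ A → y * y = 1 → y ∉ A →
      ∃ n ∈ N, n * x * n⁻¹ = y := by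
    have hnt : ∀ x : ↥N, (x : G) * x = 1 → (x : G) ∉ A → φ₀ x * φ₀ x = 1 ∧ φ₀ x ≠ 1 := by
      intro x hx hxA
      refine ⟨by rw [← map_mul, show x * x = 1 from Subtype.ext hx, map_one], fun h => hxA ?_⟩
      obtain ⟨a, ha, o, ho, he⟩ := hdec x h
      have ho2 : o * o = 1 := by
        rw [he, mul_assoc, ← mul_assoc o a o, hOc o ho a ha, mul_assoc, ← mul_assoc, hA2 a ha, one_mul] at hx
        exact hx
      have ho1 : o = 1 := by
        obtain ⟨k, hk⟩ := odd_orderOf hOodd ho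
        have := pow_orderOf_eq_one o
        rwa [hk, pow_succ, pow_mul, pow_two, ho2, one_pow, one_mul] at this
      rw [he, ho1, mul_one]
      exact ha
    intro x hx y hy hx2 hxA hy2 hyA
    obtain ⟨h1, h1'⟩ := hnt ⟨x, hx⟩ hx2 hxA
    obtain ⟨h2, h2'⟩ := hnt ⟨y, hy⟩ hy2 hyA
    obtain ⟨π, hπ⟩ := (by decide +kernel : ∀ u v : A5, u * u = 1 → u ≠ 1 → v * v = 1 → v ≠ 1 →
      ∃ π : A5, π * v * π⁻¹ = u) _ _ h1 h1' h2 h2'
    obtain ⟨m, rfl⟩ := hφ₀ π
    set y' := (m : G) * y * (m : G)⁻¹ with hy'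
    have hy'2 : y' * y' = 1 := by
      rw [hy', show (m : G) * y * (m : G)⁻¹ * (m * y * (m : G)⁻¹) = m * (y * y) * (m : G)⁻¹ by group,
        hy2, mul_one, mul_inv_cancel]
    obtain ⟨a, ha, o, ho, he⟩ := hdec (⟨x, hx⟩⁻¹ * (m * ⟨y, hy⟩ * m⁻¹)) (by
      simp only [map_mul, map_inv]; rw [hπ, inv_mul_cancel])
    have hy'e : y' = x * a * o := by
      have : x⁻¹ * y' = a * o := he
      rw [mul_assoc, ← this, mul_inv_cancel_left]
    set t := x * a with ht
    have htN : t ∈ N := N.mul_mem hx (hAN ha)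
    have ht2 : t * t = 1 := by
      refine eq_one_of_odd hA2p hOodd ?_ ?_
      · rw [ht, show x * a * (x * a) = (x * a * x⁻¹) * (x * x) * a by group, hx2, mul_one]
        exact A.mul_mem (hnA x hx a ha) ha
      · have hh : t * t = (t * o⁻¹ * t⁻¹) * (t * o * t * o) * o⁻¹ := by group
        rw [hh, show t * o * t * o = y' * y' by rw [hy'e]; group, hy'2, mul_one]
        exact O.mul_mem (hOnorm t htN _ (O.inv_mem ho)) (O.inv_mem ho)
    have htinv : t⁻¹ = t := inv_eq_of_mul_eq_one_right ht2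
    have hto : t * o * t⁻¹ = o⁻¹ := eq_inv_of_mul_eq_one_left (by
      rw [htinv, show t * o * t * o = y' * y' by rw [hy'e]; group, hy'2])
    obtain ⟨k, hk⟩ := odd_orderOf hOodd ho
    set s := o ^ (k + 1) with hs
    have hss : s * s = o := by
      rw [hs, ← pow_add, show k + 1 + (k + 1) = orderOf o + 1 by omega, pow_succ, pow_orderOf_eq_one, one_mul]
    have hts : t * s⁻¹ * t⁻¹ = s := by
      rw [hs, ← inv_pow, ← conj_pow, show t * o⁻¹ * t⁻¹ = (t * o * t⁻¹)⁻¹ by group, hto, inv_inv]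
    have hst : s⁻¹ * t * s⁻¹⁻¹ = y' := by
      rw [hy'e, inv_inv, show s⁻¹ * t * s = t * (t⁻¹ * s⁻¹ * t) * s by group, htinv,
        show t * s⁻¹ * t = s by rw [htinv] at hts; exact hts, mul_assoc, hss]
    -- `t` is a conjugate of `x`
    obtain ⟨v, hv⟩ := (by decide +kernel : ∀ u : A5, u * u = 1 → u ≠ 1 →
      ∃ v : A5, v * v = 1 ∧ (u * v) ^ 5 = 1 ∧ u * v ≠ 1) _ h1 h1'
    obtain ⟨mv, rfl⟩ := hφ₀ v
    haveI : (A.subgroupOf N).Normal := ⟨fun w hw g => mem_subgroupOf.2 (by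
      simpa using hnA g g.2 _ (mem_subgroupOf.1 hw))⟩
    have hfix := (RankFour.invol_fix (G := ↥N) (A.subgroupOf N) (fun w hw => Subtype.ext (hA2 _ hw))
      (by rw [Nat.card_congr (subgroupOfEquivOfLe hAN).toEquiv, hA16]) ⟨x, hx⟩ mv
      (fun w _ => Subtype.ext (by
        show x * (x * (w : G) * x⁻¹) * x⁻¹ = w
        rw [show x * (x * (w : G) * x⁻¹) * x⁻¹ = (x * x) * w * (x * x)⁻¹ by group, hx2, one_mul, inv_one, mul_one]))
      (fun w hw => Subtype.ext (by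
        have := (hker (mv * mv)).1 (by rw [map_mul, hv.1]) (w : G) hw
        show (mv : G) * (mv * w * (mv : G)⁻¹) * (mv : G)⁻¹ = w
        rw [show (mv : G) * (mv * w * (mv : G)⁻¹) * (mv : G)⁻¹ = (mv * mv : G) * w * (mv * mv : G)⁻¹ by group]
        exact this))
      (fun w hw e1 e2 => Subtype.ext (free (n := ⟨x, hx⟩ * mv) (by rw [map_mul]; exact hv.2.1)
        (by rw [map_mul]; exact hv.2.2) hw (by
          show x * mv * (w : G) * (x * mv)⁻¹ = w
          rw [show x * mv * (w : G) * (x * mv)⁻¹ = x * (mv * w * (mv : G)⁻¹) * x⁻¹ by group,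
            show (mv : G) * w * (mv : G)⁻¹ = w from congrArg Subtype.val e2]
          exact congrArg Subtype.val e1)))).2
    have hca : x * a = a * x := by
      rw [ht] at ht2
      have := eq_inv_of_mul_eq_one_left ht2
      rwa [mul_inv_rev, inv_eq_of_mul_eq_one_right (hA2 a ha), inv_eq_of_mul_eq_one_right hx2] at this
    obtain ⟨w, hw, hwe⟩ := hfix ⟨a, hAN ha⟩ ⟨ha, mem_centralizer_singleton_iff.2 (Subtype.ext hca.symm)⟩
    have hwe' : x * (w : G) * x⁻¹ * (w : G)⁻¹ = a := congrArg Subtype.val hwe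
    have hwt : (w : G) * x * (w : G)⁻¹ = t := by
      rw [ht, ← hwe', show x * (x * (w : G) * x⁻¹ * (w : G)⁻¹) = (x * x) * w * x⁻¹ * (w : G)⁻¹ by group,
        hx2, one_mul, inv_eq_of_mul_eq_one_right hx2]
    refine ⟨(m : G)⁻¹ * s⁻¹ * w, N.mul_mem (N.mul_mem (N.inv_mem m.2)
      (N.inv_mem (oc_le N (O.pow_mem ho _)))) w.2, ?_⟩
    calc (m : G)⁻¹ * s⁻¹ * w * x * ((m : G)⁻¹ * s⁻¹ * w)⁻¹
        = (m : G)⁻¹ * (s⁻¹ * (w * x * (w : G)⁻¹) * s⁻¹⁻¹) * m := by group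
      _ = y := by rw [hwt, hst, hy']; group
  -- three classes
  obtain ⟨x, hxS, hxo, hxne, hxall⟩ : ∃ x : Fin 3 → G, (∀ i, x i ∈ (S0 : Subgroup G)) ∧
      (∀ i, orderOf (x i) = 2) ∧ (∀ i j, IsConj (x i) (x j) → i = j) ∧
      ∀ y : G, orderOf y = 2 → ∃ i, IsConj (x i) y := by
    let e := Finite.equivFinOfCardEq h3
    have hrep : ∀ i : Fin 3, ∃ y ∈ (S0 : Subgroup G), orderOf y = 2 ∧ ConjClasses.mk y = (e.symm i).1 := by
      intro i
      obtain ⟨y, hy, hy2⟩ := (e.symm i).2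
      obtain ⟨g, hg⟩ := Involutions.StronglyEmbedded.exists_conj_mem_of_sylow (P := S0) le_rfl hy2
      refine ⟨_, hg, (Involutions.Basic.orderOf_conj_eq g y).trans hy2, ?_⟩
      rw [← ConjClasses.mem_carrier_iff_mk_eq.1 hy, ConjClasses.mk_eq_mk_iff_isConj]
      exact (isConj_iff.2 ⟨g, rfl⟩).symm
    choose x hxS hxo hxe using hrep
    refine ⟨x, hxS, hxo, fun i j h => ?_, fun y hy => ?_⟩
    · exact e.symm.injective (Subtype.ext (by
        rw [← hxe, ← hxe, ConjClasses.mk_eq_mk_iff_isConj]; exact h))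
    · refine ⟨e ⟨ConjClasses.mk y, y, ConjClasses.mem_carrier_mk, hy⟩, ?_⟩
      rw [← ConjClasses.mk_eq_mk_iff_isConj, hxe, e.symm_apply_apply]
  have hx2 : ∀ i, x i * x i = 1 := fun i => by
    rw [← pow_two, ← hxo i, pow_orderOf_eq_one]
  have hx1 : ∀ i, x i ≠ 1 := fun i h => by have := hxo i; rw [h, orderOf_one] at this; omega
  have houtu : ∀ i j, x i ∉ A → x j ∉ A → i = j := fun i j hi hj => by
    obtain ⟨n, -, he⟩ := hout _ (hS0N (hxS i)) _ (hS0N (hxS j)) (hx2 i) hi (hx2 j) hj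
    exact hxne i j (isConj_iff.2 ⟨n, he⟩)
  obtain ⟨i, j, hij, hi, hj⟩ : ∃ i j, i ≠ j ∧ x i ∈ A ∧ x j ∈ A := by
    by_cases h0 : x 0 ∈ A
    · by_cases h1 : x 1 ∈ A
      · exact ⟨0, 1, by decide, h0, h1⟩
      · by_cases h2 : x 2 ∈ A
        · exact ⟨0, 2, by decide, h0, h2⟩
        · exact absurd (houtu 1 2 h1 h2) (by decide)
    · refine ⟨1, 2, by decide, ?_, ?_⟩
      · by_contra h1; exact absurd (houtu 0 1 h0 h1) (by decide)
      · by_contra h2; exact absurd (houtu 0 2 h0 h2) (by decide)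
  -- an orbit of five
  let orb : G → Set G := fun a => {b | ∃ n ∈ N, n * a * n⁻¹ = b}
  have horb : ∀ k, x k ∈ A → (∀ s ∈ orb (x k), s ∈ A ∧ s ≠ 1) ∧
      (∀ n ∈ N, ∀ s ∈ orb (x k), n * s * n⁻¹ ∈ orb (x k)) ∧ (orb (x k)).ncard % 5 = 0 ∧
      x k ∈ orb (x k) := by
    intro k hk
    have h1 : ∀ s ∈ orb (x k), s ∈ A ∧ s ≠ 1 := by
      rintro s ⟨n, hn, rfl⟩
      exact ⟨hnA n hn _ hk, fun h => hx1 k (by rw [mul_inv_eq_one, mul_eq_left] at h; exact h)⟩
    have h2 : ∀ n ∈ N, ∀ s ∈ orb (x k), n * s * n⁻¹ ∈ orb (x k) := by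
      rintro n hn s ⟨m, hm, rfl⟩
      exact ⟨n * m, N.mul_mem hn hm, by group⟩
    exact ⟨h1, h2, five_set A N hA2 hA16 hnA φ₀ hφ₀ hker _ h1 h2, 1, N.one_mem, by simp⟩
  obtain ⟨k, hk, h5⟩ : ∃ k, x k ∈ A ∧ (orb (x k)).ncard = 5 := by
    obtain ⟨ha, hb, hc, hd⟩ := horb i hi
    obtain ⟨ha', hb', hc', hd'⟩ := horb j hj
    have hdis : Disjoint (orb (x i)) (orb (x j)) := by
      rw [Set.disjoint_left]
      rintro s ⟨n, -, rfl⟩ ⟨m, -, he⟩
      exact hij (hxne i j ((isConj_iff.2 ⟨n, rfl⟩).trans (he ▸ (isConj_iff.2 ⟨m, rfl⟩).symm)))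
    have hsub : orb (x i) ∪ orb (x j) ⊆ (A : Set G) \ {1} :=
      Set.union_subset (fun s hs => ⟨(ha s hs).1, (ha s hs).2⟩) fun s hs => ⟨(ha' s hs).1, (ha' s hs).2⟩
    have h := Set.ncard_le_ncard hsub
    rw [Set.ncard_union_eq hdis, Set.ncard_sdiff_singleton_of_mem (one_mem A), ← Nat.card_coe_set_eq (A : Set G)] at h
    change _ ≤ Nat.card A - 1 at h
    have p1 : 0 < (orb (x i)).ncard := (Set.ncard_pos).2 ⟨_, hd⟩
    have p2 : 0 < (orb (x j)).ncard := (Set.ncard_pos).2 ⟨_, hd'⟩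
    by_cases hh : (orb (x i)).ncard = 5
    · exact ⟨i, hi, hh⟩
    · exact ⟨j, hj, by omega⟩
  obtain ⟨h1, h2, -, -⟩ := horb k hk
  obtain ⟨φ, hφ, hkk, ι, hm, hsurj, hadd, heq, hact⟩ :=
    module A N hA2 hA16 hnA φ₀ hφ₀ hker _ h1 h2 h5
  have hrepA : ∀ f g : V5, ¬ eqv 0 f → ¬ eqv 0 g → (four f ↔ four g) →
      ∃ n ∈ N, n * ι f * n⁻¹ = ι g := fun f g hf hg h => by
    obtain ⟨π, hπ⟩ := trans f g hf hg h
    obtain ⟨n, rfl⟩ := hφ π
    exact ⟨n, n.2, by rw [hact, heq]; exact hπ⟩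
  have hι0 : ι 0 = 1 := by
    have h := hadd 0 0
    rw [add_zero] at h
    exact left_eq_mul.1 h
  have hne0 : ∀ l, ∀ f, x l = ι f → ¬ eqv 0 f := fun l f hf h => hx1 l (by
    rw [hf, ← hι0]; exact ((heq 0 f).2 h).symm)
  obtain ⟨fi, hfi⟩ := hsurj _ hi
  obtain ⟨fj, hfj⟩ := hsurj _ hj
  have hkind : ¬ (four fi ↔ four fj) := fun h => by
    obtain ⟨n, -, he⟩ := hrepA fi fj (hne0 i fi hfi.symm) (hne0 j fj hfj.symm) h
    exact hij (hxne i j (isConj_iff.2 ⟨n, by rw [← hfi, ← hfj]; exact he⟩))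
  obtain ⟨l, hl⟩ : ∃ l, x l ∉ A := by
    by_contra hcon
    push Not at hcon
    obtain ⟨l, hli, hlj⟩ := (by decide : ∀ i j : Fin 3, ∃ l, l ≠ i ∧ l ≠ j) i j
    obtain ⟨fl, hfl⟩ := hsurj _ (hcon l)
    by_cases h : four fl ↔ four fi
    · obtain ⟨n, -, he⟩ := hrepA fl fi (hne0 l fl hfl.symm) (hne0 i fi hfi.symm) h
      exact hli (hxne l i (isConj_iff.2 ⟨n, by rw [← hfl, ← hfi]; exact he⟩))
    · obtain ⟨n, -, he⟩ := hrepA fl fj (hne0 l fl hfl.symm) (hne0 j fj hfj.symm) (by tauto)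
      exact hlj (hxne l j (isConj_iff.2 ⟨n, by rw [← hfl, ← hfj]; exact he⟩))
  have hclass : ∀ f, ¬ eqv 0 f → ∃ r, (r = i ∧ (four f ↔ four fi) ∨ r = j ∧ (four f ↔ four fj)) ∧
      ∃ n ∈ N, n * ι f * n⁻¹ = x r := fun f hf => by
    by_cases h : four f ↔ four fi
    · obtain ⟨n, hn, he⟩ := hrepA f fi hf (hne0 i fi hfi.symm) h
      exact ⟨i, Or.inl ⟨rfl, h⟩, n, hn, he.trans hfi⟩
    · have h' : four f ↔ four fj := by tauto
      obtain ⟨n, hn, he⟩ := hrepA f fj hf (hne0 j fj hfj.symm) h'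
      exact ⟨j, Or.inr ⟨rfl, h'⟩, n, hn, he.trans hfj⟩
  have hfus : ∀ g f, g * ι f * g⁻¹ ∈ N → ¬ eqv 0 f → ∃ n ∈ N, g * ι f * g⁻¹ = n * ι f * n⁻¹ := by
    intro g f hy hf
    obtain ⟨r, hr, n, hn, he⟩ := hclass f hf
    have hc : IsConj (x r) (g * ι f * g⁻¹) := (isConj_iff.2 ⟨n, he⟩).symm.trans (isConj_iff.2 ⟨g, rfl⟩)
    by_cases hyA : g * ι f * g⁻¹ ∈ A
    · obtain ⟨f', hf'⟩ := hsurj _ hyA
      have hf'0 : ¬ eqv 0 f' := fun h => hf (by
        have h1 : g * ι f * g⁻¹ = 1 := hf'.symm.trans (((heq 0 f').2 h).symm.trans hι0)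
        rw [mul_inv_eq_one, mul_eq_left] at h1
        exact (heq 0 f).1 (hι0.trans h1.symm))
      obtain ⟨r', hr', n', hn', he'⟩ := hclass f' hf'0
      have hrr : r' = r := hxne r' r ((isConj_iff.2 ⟨n', he'⟩).symm.trans (hf' ▸ hc.symm))
      subst hrr
      refine ⟨n'⁻¹ * n, N.mul_mem (N.inv_mem hn') hn, ?_⟩
      rw [← hf', show n'⁻¹ * n * ι f * (n'⁻¹ * n)⁻¹ = n'⁻¹ * (n * ι f * n⁻¹) * n' by group, he, ← he']
      group
    · have hy2 : g * ι f * g⁻¹ * (g * ι f * g⁻¹) = 1 := by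
        rw [show g * ι f * g⁻¹ * (g * ι f * g⁻¹) = g * (ι f * ι f) * g⁻¹ by group,
          hA2 _ (hm f), mul_one, mul_inv_cancel]
      obtain ⟨m, -, hme⟩ := hout _ (hS0N (hxS l)) _ hy (hx2 l) hl hy2 hyA
      have hlr : l = r := hxne l r ((isConj_iff.2 ⟨m, hme⟩).trans hc.symm)
      subst hlr
      rcases hr with ⟨rfl, -⟩ | ⟨rfl, -⟩
      · exact absurd hi hl
      · exact absurd hj hl
  exact ⟨
    { φ := φ, φ_surj := hφ, ι := ι, ι_mem := hm, ι_surj := hsurj, ι_add := hadd, ι_eq := heq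
      act := hact, le := hAN, mem_N := hmemN
      φ_A := fun n hn => (hkk n).2 (hφA n hn)
      dec := fun n hn => hdec n ((hkk n).1 hn)
      O_le := oc_le N, O_odd := hOodd, O_norm := hOnorm, O_comm := hOc
      S0 := S0, S0_le := hS0N, A_le := hAS0, fus := hfus, outside := hout
      exists_outside := ⟨x l, hxS l, hx2 l, hl⟩ }⟩

end Cfsg.Agent.Lib.Inv59.ASixteen
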